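import Cfsg.Agent.Lib.FiniteGroup.PqFpf.Config

/-!
The configuration with an abelian normal subgroup is impossible.
-/

set_option autoImplicit false
set_option linter.style.haveILetI false
set_option linter.unusedSectionVars false

namespace Cfsg.Agent.PqFpf

open scoped commutatorElement BigOperators
open OpFpf

variable {A H : Type*} [Group A] [Group H] {W : Type*} [AddCommGroup W] {ψ : A →* MulAut H}

namespace IsPq

variable {R : Rep ψ W} {p m s t ℓ : ℕ} {f : A} {Q T : Subgroup H} (F : IsPq R p m s t ℓ f Q T)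

include F

/-- Commutators with the derivation of an operator trivial on `Q` modulo a `T`-stable subgroup. -/
theorem comm_mem_of_triv {c : A} {K : Subgroup H} (hK : ∀ y ∈ T, ∀ x ∈ K, y * x * y⁻¹ ∈ K)
    (htriv : ∀ u ∈ Q, u * (ψ c u)⁻¹ ∈ K) {y : H} (hy : y ∈ T) {u : H} (hu : u ∈ Q) :
    (y⁻¹ * ψ c y) * u * (y⁻¹ * ψ c y)⁻¹ * u⁻¹ ∈ K := by
  have h1 := hK _ (inv_mem hy) _ (htriv (y * u * y⁻¹) (F.pair.Qn.conj_mem u hu y))
  have h2 := hK _ (mul_mem (inv_mem hy) (F.pair.Ti c y hy)) _ (htriv u hu)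
  have h3 := mul_mem h2 (inv_mem h1)
  convert h3 using 1
  rw [map_mul, map_mul, map_inv (ψ c)]
  group

/-- An element of `T` centralizing `Q` modulo `D`-containing stable subgroups: the norm argument. -/
theorem mem_of_fixed_mod_T (hII : ∀ x ∈ T, ψ f x = x → x ∈ F.T₀) {c : A}
    (hc : c ∉ Subgroup.zpowers f) {K : Subgroup H} (hKQ : K ≤ Q) (hDK : ⁅Q, Q⁆ ≤ K)
    (hKt : ∀ y ∈ T, ∀ x ∈ K, y * x * y⁻¹ ∈ K) (hKc : ∀ x ∈ K, ψ c x ∈ K)
    (htriv : ∀ y ∈ T, ∀ u ∈ Q, (y⁻¹ * ψ c y) * u * (y⁻¹ * ψ c y)⁻¹ * u⁻¹ ∈ K)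
    {x : H} (hx : x ∈ Q) (hcx : ψ c x * x⁻¹ ∈ K) : x ∈ K := by
  classical
  haveI := R.finA
  haveI := R.finH
  haveI := F.pair.Qn
  haveI : Finite (Abelianization Q) := Finite.of_surjective _ QuotientGroup.mk_surjective
  set Kb := (K.subgroupOf Q).map (Abelianization.of (G := Q)) with hKb
  have hmem : ∀ z : Q, Abelianization.of z ∈ Kb ↔ (z : H) ∈ K := by
    intro z
    refine ⟨fun ⟨w, hw, hwz⟩ => ?_, fun h => ⟨z, h, rfl⟩⟩
    have h1 : w⁻¹ * z ∈ commutator Q := QuotientGroup.eq.1 hwz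
    have h2 : ((w⁻¹ * z : Q) : H) ∈ K := hDK (by
      rw [← Subgroup.map_subtype_commutator]; exact ⟨_, h1, rfl⟩)
    have h3 := mul_mem (show (w : H) ∈ K from hw) h2
    simpa using h3
  let α : A →* MulAut (Abelianization Q) :=
    { toFun := fun a => (restrict ψ Q F.pair.Qi a).abelianizationCongr
      map_one' := MulEquiv.ext fun z => QuotientGroup.induction_on z fun u =>
        congrArg Abelianization.of (Subtype.ext (act_one ψ (u : H)) :
          restrict ψ Q F.pair.Qi 1 u = u)
      map_mul' := fun a b => MulEquiv.ext fun z => QuotientGroup.induction_on z fun u =>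
        congrArg Abelianization.of (Subtype.ext (act_mul ψ a b (u : H)) :
          restrict ψ Q F.pair.Qi (a * b) u =
            restrict ψ Q F.pair.Qi a (restrict ψ Q F.pair.Qi b u)) }
  let τ : T →* MulAut (Abelianization Q) :=
    { toFun := fun y => (MulAut.conjNormal (H := Q) (y : H)).abelianizationCongr
      map_one' := MulEquiv.ext fun z => QuotientGroup.induction_on z fun u =>
        congrArg Abelianization.of (Subtype.ext (by simp) :
          MulAut.conjNormal (H := Q) ((1 : T) : H) u = u)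
      map_mul' := fun a b => MulEquiv.ext fun z => QuotientGroup.induction_on z fun u =>
        congrArg Abelianization.of (Subtype.ext (by simp [mul_assoc]) :
          MulAut.conjNormal (H := Q) ((a * b : T) : H) u =
            MulAut.conjNormal (H := Q) (a : H) (MulAut.conjNormal (H := Q) (b : H) u)) }
  have hα : ∀ a (u : Q), α a (Abelianization.of u) =
      Abelianization.of (restrict ψ Q F.pair.Qi a u) := fun _ _ => rfl
  have hτ : ∀ (y : T) (u : Q), τ y (Abelianization.of u) =
      Abelianization.of (MulAut.conjNormal (H := Q) (y : H) u) := fun _ _ => rfl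
  have hsurj : ∀ z : Abelianization Q, ∃ u, Abelianization.of u = z :=
    QuotientGroup.mk_surjective
  have hcopQ : (Nat.card (Abelianization Q)).Coprime (Nat.card A) :=
    (R.copAH.coprime_dvd_left (Subgroup.card_subgroup_dvd_card Q)).coprime_dvd_left
      (Subgroup.card_dvd_of_surjective Abelianization.of QuotientGroup.mk_surjective)
  have hcopT : (Nat.card (Abelianization Q)).Coprime (Nat.card T) := by
    haveI := Fact.mk F.pair.hq
    haveI := Fact.mk F.pair.hr
    obtain ⟨i, hi⟩ := IsPGroup.iff_card.1 F.pair.Qp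
    obtain ⟨j, hj⟩ := IsPGroup.iff_card.1 F.pair.Tp
    refine Nat.Coprime.coprime_dvd_left
      (Subgroup.card_dvd_of_surjective Abelianization.of QuotientGroup.mk_surjective) ?_
    rw [hi, hj]
    exact ((Nat.coprime_primes F.pair.hq F.pair.hr).2 F.pair.qr).pow i j
  have hgen : ∀ g ∈ Subgroup.zpowers f, g ≠ 1 → ∀ S : Subgroup A, c ∈ S → g⁻¹ * c * g ∈ S →
      f ∈ S := by
    intro g hg hg1 S hcS hgS
    by_contra hfS
    have hz : g⁻¹ * c * g * c⁻¹ ∈ Subgroup.zpowers f := by
      obtain ⟨k, hk⟩ := Subgroup.mem_zpowers_iff.1 hg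
      have h := F.normf c
      rw [mul_assoc g⁻¹, mul_assoc g⁻¹]
      refine mul_mem (inv_mem hg) ?_
      rw [← hk, ← conj_zpow]
      exact Subgroup.zpow_mem _ h k
    by_cases h1 : g⁻¹ * c * g * c⁻¹ = 1
    · have hcg : Commute c g := by
        rw [mul_inv_eq_one, mul_assoc, inv_mul_eq_iff_eq_mul] at h1
        exact h1
      obtain ⟨k, hk⟩ := Subgroup.mem_zpowers_iff.1 (F.zp_symm hg1 hg)
      exact (F.outside c hc).2 (by rw [← hk]; exact (hcg.zpow_right k).eq)
    · exact hfS (Subgroup.zpowers_le.2 (mul_mem hgS (inv_mem hcS)) (F.zp_symm h1 hz))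
  have key := mem_of_fixed_mod α (restrict ψ T F.pair.Ti) τ
    (fun a y z => by
      obtain ⟨u, rfl⟩ := hsurj z
      rw [hτ, hα, hα, hτ]
      exact congrArg Abelianization.of (Subtype.ext (by simp [map_mul, map_inv])))
    (fun z hz => by
      obtain ⟨u, rfl⟩ := hsurj z
      obtain ⟨n, hn, hfix⟩ := lift_abelian ψ R.copAH (N := ⁅Q, Q⁆)
        (fun a ha b _ => (F.pair.commutator_central ha b).symm)
        (inv_commutator ψ F.pair.Qi F.pair.Qi) (g := (u : H)) fun a => by
          have h1 : u⁻¹ * restrict ψ Q F.pair.Qi a u ∈ commutator Q :=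
            QuotientGroup.eq.1 (hz a).symm
          rw [← Subgroup.map_subtype_commutator]
          exact ⟨_, h1, rfl⟩
      have hu : (u : H) ∈ ⁅Q, Q⁆ := by
        rw [eq_inv_of_mul_eq_one_left (F.fpfH _ hfix)]
        exact inv_mem hn
      rw [← Subgroup.map_subtype_commutator] at hu
      obtain ⟨w, hw, hwu⟩ := hu
      rw [← MonoidHom.mem_ker, Abelianization.ker_of, ← Subtype.ext hwu]
      exact hw)
    hcopT hcopQ
    (fun _ z => by
      obtain ⟨u, rfl⟩ := hsurj z
      simp only [hτ]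
      exact F.pair.norm_eq_one u)
    (F.normf c) hgen (fun S hf hc' => F.top_of hc hf hc')
    (fun y => by
      obtain ⟨u, hu, hu'⟩ := F.exists_commutator_f hII y.2
      refine ⟨⟨u, hu⟩, MonoidHom.mem_ker.2 (MulEquiv.ext fun z => ?_)⟩
      obtain ⟨w, rfl⟩ := hsurj z
      rw [hτ, MulAut.one_apply]
      refine congrArg Abelianization.of (Subtype.ext ?_)
      rw [MulAut.conjNormal_apply]
      exact mul_inv_eq_iff_eq_mul.2 ((F.mem_T₀.1 hu').2 (w : H) w.2))
    Kb
    (fun y z hz => by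
      obtain ⟨u, rfl⟩ := hsurj z
      rw [hτ, hmem, MulAut.conjNormal_apply]
      exact hKt y y.2 _ ((hmem u).1 hz))
    (fun z hz => by
      obtain ⟨u, rfl⟩ := hsurj z
      rw [hα, hmem]
      exact hKc _ ((hmem u).1 hz))
    (fun y z => by
      obtain ⟨u, rfl⟩ := hsurj z
      rw [hτ, ← map_inv, ← map_mul, hmem, Subgroup.coe_mul, Subgroup.coe_inv,
        MulAut.conjNormal_apply]
      exact htriv y y.2 u u.2)
    (x := Abelianization.of (⟨x, hx⟩ : Q))
    (by rw [hα, ← map_inv, ← map_mul, hmem]; exact hcx)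
  exact (hmem ⟨x, hx⟩).1 key

/-- The abelian case. -/
theorem false_of_abelian [Nontrivial W] (hD : ⁅Q, Q⁆ = ⊥) : False := by
  haveI := R.finA
  haveI := R.finH
  haveI := F.pair.Qn
  haveI := F.pair.Q_nontrivial
  have hQc : ∀ x ∈ Q, ∀ y ∈ Q, x * y = y * x := fun x hx y hy => by
    rw [← commutatorElement_eq_one_iff_mul_comm, ← Subgroup.mem_bot, ← hD]
    exact Subgroup.commutator_mem_commutator hx hy
  have hQB : ∀ {B : Subgroup H}, R.IsMax Q B → ¬ Q ≤ B :=
    fun hB => R.isMax_lt F.pair.Qn F.pair.Qi hB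
  have hconjQ : ∀ {B : Subgroup H}, R.IsMax Q B → ∀ y, (∀ u ∈ Q, y * u = u * y) →
      y ∈ conjStab B := by
    intro B hB y hy
    rw [mem_conjStab]
    ext x
    constructor
    · rintro ⟨z, hz, rfl⟩
      change y * z * y⁻¹ ∈ B
      rwa [hy z (hB.1 hz), mul_inv_cancel_right]
    · intro hx
      refine ⟨x, hx, ?_⟩
      change y * x * y⁻¹ = x
      rw [hy x (hB.1 hx), mul_inv_cancel_right]
  -- no component is stabilized by `f`
  have hfB : ∀ {B : Subgroup H}, R.IsMax Q B → f ∉ opStab ψ B := by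
    intro B hB hf
    have hftriv := F.f_triv F.pair.Qn F.pair.Qi hQc hB hf
    rcases F.cases_T with hI | hII
    · let g : Q → Q := fun n =>
        ⟨(n : H) * (ψ f n)⁻¹, mul_mem n.2 (inv_mem (F.pair.Qi f _ n.2))⟩
      have hg : Function.Injective g := by
        intro x y h
        have h' : (x : H) * (ψ f x)⁻¹ = (y : H) * (ψ f y)⁻¹ := congrArg Subtype.val h
        have h1 : ψ f ((y : H)⁻¹ * x) = (y : H)⁻¹ * x := by
          rw [map_mul, map_inv (ψ f)]
          calc (ψ f (y : H))⁻¹ * ψ f x = (y : H)⁻¹ * ((y : H) * (ψ f y)⁻¹) * ψ f x := by group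
            _ = (y : H)⁻¹ * x := by rw [← h']; group
        have h2 := F.fixed_mem_commutator hI (mul_mem (inv_mem y.2) x.2) h1
        rw [hD, Subgroup.mem_bot] at h2
        exact Subtype.ext (inv_mul_eq_one.1 h2).symm
      refine hQB hB fun n hn => ?_
      obtain ⟨k, hk⟩ := Finite.injective_iff_surjective.1 hg ⟨n, hn⟩
      have hk' : (k : H) * (ψ f k)⁻¹ = n := congrArg Subtype.val hk
      rw [← hk']
      exact hftriv _ k.2
    -- elements centralizing `Q` modulo `B`
    let C : Subgroup H :=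
      { carrier := {y | y ∈ conjStab B ∧ ∀ x ∈ Q, x * (y * x * y⁻¹)⁻¹ ∈ B}
        one_mem' := ⟨one_mem _, fun x _ => by simp⟩
        mul_mem' := fun {a b} ha hb => ⟨mul_mem ha.1 hb.1, fun x hx => by
          have h := mul_mem (hb.2 x hx) (ha.2 _ (F.pair.Qn.conj_mem x hx b))
          convert h using 1
          group⟩
        inv_mem' := fun {a} ha => ⟨inv_mem ha.1, fun x hx => by
          have h := inv_mem (ha.2 _ (F.pair.Qn.conj_mem x hx a⁻¹))
          convert h using 1
          group⟩ }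
    have hT₀C : ∀ y ∈ F.T₀, y ∈ C := fun y hy =>
      ⟨hconjQ hB y (F.mem_T₀.1 hy).2, fun x hx => by
        rw [(F.mem_T₀.1 hy).2 x hx, mul_inv_cancel_right, mul_inv_cancel]
        exact one_mem B⟩
    have hnot : ¬ T ≤ conjStab B := by
      intro hTB
      refine hQB hB (F.pair.le_of_comm fun y hy x hx => ?_)
      suffices hyC : y ∈ C by
        have h := inv_mem (hyC.2 x hx)
        convert h using 1
        group
      obtain ⟨u, hu, hu'⟩ := F.exists_commutator_f hII hy
      have huC : u⁻¹ * ψ f u ∈ C := by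
        refine ⟨hTB (mul_mem (inv_mem hu) (F.pair.Ti f u hu)), fun z hz => ?_⟩
        have h1 := hftriv (u * z * u⁻¹) (F.pair.Qn.conj_mem z hz u)
        rw [map_mul, map_mul, map_inv (ψ f)] at h1
        have h2 := conj_mem_of_mp (mem_conjStab.1 (hTB (F.pair.Ti f u hu))) (inv_mem (hftriv z hz))
        have h3 := conj_mem_of_mp (mem_conjStab.1 (hTB (inv_mem hu))) (mul_mem h1 h2)
        convert h3 using 1
        group
      have h := mul_mem huC (inv_mem (hT₀C _ hu'))
      simpa [mul_assoc] using h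
    -- translates fixed by `f` are trivial
    have hfix : ∀ y ∈ T, mp (ψ f) (mp (MulAut.conj y) B) = mp (MulAut.conj y) B →
        y ∈ conjStab B := by
      intro y hy h
      rw [mp_comm, mem_opStab.1 hf] at h
      have h1 : y⁻¹ * ψ f y ∈ T ⊓ conjStab B := by
        refine Subgroup.mem_inf.2 ⟨mul_mem (inv_mem hy) (F.pair.Ti f y hy), ?_⟩
        rw [mem_conjStab, map_mul, ← mp_mp, h, mp_mp, ← map_mul, inv_mul_cancel,
          map_one, mp_one]
      refine (F.mem_of_fixed_coset hII
        (le_inf F.T₀_le fun z hz => hconjQ hB z (F.mem_T₀.1 hz).2) inf_le_left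
        (fun z hz => Subgroup.mem_inf.2 ⟨F.pair.Ti f z hz.1, ?_⟩) hy h1).2
      have h2 := congrArg (mp (ψ f)) (mem_conjStab.1 hz.2)
      rw [mp_comm, mem_opStab.1 hf] at h2
      exact mem_conjStab.2 h2
    obtain ⟨y, hy, hyB⟩ := Set.not_subset.1 hnot
    have hBy := R.isMax_conj F.pair.Qn y hB
    have hfy : f ∉ opStab ψ (mp (MulAut.conj y) B) := fun h => hyB (hfix y hy (mem_opStab.1 h))
    obtain ⟨c, hc1, hcy, hcf, -, h0⟩ :=
      (F.stab_cases F.pair.Qn F.pair.Qi hQc hBy).resolve_left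
        fun h => hfy (h ▸ Subgroup.mem_top f)
    have hcout : c ∉ Subgroup.zpowers f := hcf.resolve_left fun h => hfy (h ▸ hcy)
    by_cases hcB : c ∈ opStab ψ B
    · set u := y⁻¹ * ψ c y with hu
      have huB : u ∈ conjStab B := by
        have h := mem_opStab.1 hcy
        rw [mp_comm, mem_opStab.1 hcB] at h
        rw [mem_conjStab, hu, map_mul, ← mp_mp, h, mp_mp, ← map_mul, inv_mul_cancel, map_one,
          mp_one]
      have hrel : ∀ x ∈ Q, x * (u * ψ c x * u⁻¹)⁻¹ ∈ B := by
        intro x hx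
        have h := F.triv_of_proper F.pair.Qn F.pair.Qi hQc hBy hc1 hcy h0
          (F.pair.Qn.conj_mem x hx y)
        obtain ⟨z, hz, hze⟩ := h
        have hz' : y * z * y⁻¹ = y * x * y⁻¹ * (ψ c (y * x * y⁻¹))⁻¹ := hze
        rw [map_mul, map_mul, map_inv (ψ c)] at hz'
        have e : z = x * (u * ψ c x * u⁻¹)⁻¹ := by
          calc z = y⁻¹ * (y * z * y⁻¹) * y := by group
            _ = x * (u * ψ c x * u⁻¹)⁻¹ := by rw [hz', hu]; group
        exact e ▸ hz
      have hn : ∀ n : ℕ, ∀ x ∈ Q, x * (u ^ n * ψ (c ^ n) x * (u ^ n)⁻¹)⁻¹ ∈ B := by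
        intro n
        induction n with
        | zero => intro x _; simp
        | succ n ih =>
          intro x hx
          have h1 := conj_mem_of_mp (mem_conjStab.1 ((conjStab B).pow_mem huB n))
            (hrel _ (F.pair.Qi (c ^ n) x hx))
          have h2 := mul_mem (ih x hx) h1
          rw [pow_succ' c, act_mul, pow_succ u]
          convert h2 using 1
          group
      have huC : u ∈ C := by
        have h1 : u ^ orderOf c ∈ C := ⟨(conjStab B).pow_mem huB _, fun x hx => by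
          have h := hn (orderOf c) x hx
          rwa [pow_orderOf_eq_one, act_one] at h⟩
        exact S3Fpf.mem_of_pow_mem (F.coprime_order c) _ h1
      have hctriv : c ∈ F.trivSub hB F.pair.Qn hQc F.pair.Qi := by
        refine ⟨hcB, fun x hx => ?_⟩
        have hx' := F.pair.Qi c x hx
        have h := mul_mem (hrel x hx) (inv_mem (huC.2 _ hx'))
        convert h using 1
        group
      have htopS := F.top_of hcout (S := F.trivSub hB F.pair.Qn hQc F.pair.Qi) ⟨hf, hftriv⟩ hctriv
      have hall : ∀ a, a ∈ F.trivSub hB F.pair.Qn hQc F.pair.Qi := fun a =>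
        htopS ▸ Subgroup.mem_top a
      refine hQB hB fun x hx => ?_
      obtain ⟨n, hn, hfx⟩ := lift_abelian ψ R.copAH (N := B)
        (fun a ha b hb => hQc a (hB.1 ha) b (hB.1 hb))
        (fun a z hz => mem_of_mp_eq (mem_opStab.1 (hall a).1) hz) (g := x) fun a => by
          rw [hQc x⁻¹ (inv_mem hx) _ (F.pair.Qi a x hx)]
          have h := inv_mem ((hall a).2 x hx)
          rwa [mul_inv_rev, inv_inv] at h
      rw [eq_inv_of_mul_eq_one_left (F.fpfH _ hfx)]
      exact inv_mem hn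
    · refine hcB (mem_opStab.2 ?_)
      set w := (ψ c y)⁻¹ * y with hw
      have hcw : mp (ψ c) B = mp (MulAut.conj w) B := by
        have h := mem_opStab.1 hcy
        rw [mp_comm] at h
        rw [hw, map_mul, ← mp_mp, ← h, mp_mp, ← map_mul, inv_mul_cancel, map_one, mp_one]
      have hfc : mp (ψ f) (mp (ψ c) B) = mp (ψ c) B := by
        have h := F.normf c⁻¹
        rw [inv_inv] at h
        rw [mp_mp, ← map_mul, show f * c = c * (c⁻¹ * f * c) by group, map_mul, ← mp_mp,
          mem_opStab.1 (Subgroup.zpowers_le.2 hf h)]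
      rw [hcw] at hfc ⊢
      exact mem_conjStab.1 (hfix w (mul_mem (inv_mem (F.pair.Ti c y hy)) hy) hfc)
  obtain ⟨B, hB⟩ := R.exists_max (N := Q)
  obtain ⟨c, hc1, hcB, hcf, -, -⟩ :=
    (F.stab_cases F.pair.Qn F.pair.Qi hQc hB).resolve_left
      fun h => hfB hB (h ▸ Subgroup.mem_top f)
  have hc : c ∉ Subgroup.zpowers f := hcf.resolve_left fun h => hfB hB (h ▸ hcB)
  -- `c` stabilizes all translates
  have hcfix : ∀ y ∈ T, c ∈ opStab ψ (mp (MulAut.conj y) B) := by
    intro y hy
    by_contra hcy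
    have hBy := R.isMax_conj F.pair.Qn y hB
    obtain ⟨d, hd1, hdy, -, -, -⟩ := (F.stab_cases F.pair.Qn F.pair.Qi hQc hBy).resolve_left
      fun h => hfB hBy (h ▸ Subgroup.mem_top f)
    have hdc : d ∉ Subgroup.zpowers c := fun h =>
      hcy (Subgroup.zpowers_le.2 hdy (F.zp_symm hd1 h))
    let S₀ : Subgroup A :=
      { carrier := {e | ∃ z ∈ T, mp (ψ e) B = mp (MulAut.conj z) B}
        one_mem' := ⟨1, one_mem T, by rw [map_one, map_one, mp_one]⟩
        mul_mem' := by
          rintro e g ⟨z, hz, he⟩ ⟨z', hz', hg⟩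
          refine ⟨ψ e z' * z, mul_mem (F.pair.Ti e z' hz') hz, ?_⟩
          rw [map_mul, ← mp_mp, hg, mp_comm, he, mp_mp, ← map_mul]
        inv_mem' := by
          rintro e ⟨z, hz, he⟩
          refine ⟨(ψ e⁻¹ z)⁻¹, inv_mem (F.pair.Ti _ z hz), ?_⟩
          have h := congrArg (mp (ψ e⁻¹)) he
          rw [mp_mp, ← map_mul, inv_mul_cancel, map_one, mp_one, mp_comm] at h
          conv_rhs => rw [h]
          rw [mp_mp, ← map_mul, inv_mul_cancel, map_one, mp_one] }
    have hcS : c ∈ S₀ := ⟨1, one_mem T, by rw [mem_opStab.1 hcB, map_one, mp_one]⟩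
    have hdS : d ∈ S₀ := by
      refine ⟨(ψ d y)⁻¹ * y, mul_mem (inv_mem (F.pair.Ti d y hy)) hy, ?_⟩
      have h := mem_opStab.1 hdy
      rw [mp_comm] at h
      rw [map_mul, ← mp_mp, ← h, mp_mp, ← map_mul, inv_mul_cancel, map_one, mp_one]
    have hfS : f ∈ S₀ := F.gen S₀ c hcS d hdS hc1 hdc ▸ Subgroup.mem_top f
    obtain ⟨z, hz, hfz⟩ := hfS
    rcases F.cases_T with hI | hII
    · have hiter : ∀ n : ℕ, mp (ψ (f ^ n)) B = mp (MulAut.conj (z ^ n)) B := by
        intro n
        induction n with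
        | zero => rw [pow_zero, pow_zero, map_one, map_one, mp_one]
        | succ n ih =>
          rw [pow_succ', pow_succ, map_mul, ← mp_mp, ih, mp_comm, hI _ (T.pow_mem hz n), hfz,
            mp_mp, ← map_mul]
      have hzB : z ∈ conjStab B := by
        refine S3Fpf.mem_of_pow_mem (F.coprime_order f) _ ?_
        rw [mem_conjStab, ← hiter, pow_orderOf_eq_one, map_one, mp_one]
      exact hfB hB (mem_opStab.2 (hfz.trans (mem_conjStab.1 hzB)))
    · obtain ⟨u, hu, hu'⟩ := F.exists_commutator_f hII (inv_mem hz)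
      rw [inv_inv] at hu'
      refine hfB (R.isMax_conj F.pair.Qn u hB) (mem_opStab.2 ?_)
      have h1 : u⁻¹ * ψ f u * z ∈ conjStab B := by
        refine hconjQ hB _ (F.mem_T₀.1 ?_).2
        have h := F.conj_T₀ (inv_mem hz) hu'
        convert h using 1
        group
      rw [mp_comm, hfz, mp_mp, ← map_mul, show ψ f u * z = u * (u⁻¹ * ψ f u * z) by group, map_mul,
        ← mp_mp, mem_conjStab.1 h1]
  let K : Subgroup H :=
    { carrier := {x | ∀ y ∈ T, y⁻¹ * x * y ∈ B}
      one_mem' := fun y _ => by simp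
      mul_mem' := fun {a b} ha hb y hy => by
        have h := mul_mem (ha y hy) (hb y hy)
        convert h using 1
        group
      inv_mem' := fun {a} ha y hy => by
        have h := inv_mem (ha y hy)
        convert h using 1
        group }
  have hKB : ∀ x ∈ K, x ∈ B := fun x hx => by simpa using hx 1 (one_mem T)
  have hKt : ∀ y ∈ T, ∀ x ∈ K, y * x * y⁻¹ ∈ K := fun y hy x hx z hz => by
    have h := hx (y⁻¹ * z) (mul_mem (inv_mem hy) hz)
    convert h using 1
    group
  have hKc : ∀ x ∈ K, ψ c x ∈ K := fun x hx y hy => by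
    have h := mem_of_mp_eq (mem_opStab.1 hcB) (hx (ψ c⁻¹ y) (F.pair.Ti c⁻¹ y hy))
    rw [map_mul, map_mul, map_inv (ψ c), act_act_inv] at h
    exact h
  have htriv : ∀ u ∈ Q, u * (ψ c u)⁻¹ ∈ K := by
    intro u hu y hy
    have hBy := R.isMax_conj F.pair.Qn y hB
    obtain ⟨d, hd1, hdy, -, hsub, h0⟩ := (F.stab_cases F.pair.Qn F.pair.Qi hQc hBy).resolve_left
      fun h => hfB hBy (h ▸ Subgroup.mem_top f)
    obtain ⟨z, hz, hze⟩ := F.triv_of_proper F.pair.Qn F.pair.Qi hQc hBy hc1 (hcfix y hy)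
      (fun v hv hcv => h0 v hv (R.σ_fix_of_mem_zpowers
        (F.zp_symm hc1 (hsub c (hcfix y hy))) hcv)) hu
    have hz' : y * z * y⁻¹ = u * (ψ c u)⁻¹ := hze
    rw [← hz']
    simpa [mul_assoc] using hz
  rcases F.cases_T with hI | hII
  · refine hQB hB fun x hx => hKB x (F.pair.le_of_comm (X := K) (fun y hy u hu => ?_) hx)
    obtain ⟨z, hz, rfl⟩ := F.exists_commutator hI hc hy
    exact F.comm_mem_of_triv hKt htriv hz hu
  · refine hQB hB fun x hx => hKB x (F.mem_of_fixed_mod_T hII hc (K := K)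
      (fun z hz => hB.1 (hKB z hz)) (by rw [hD]; exact bot_le) hKt hKc
      (fun y hy u hu => F.comm_mem_of_triv hKt htriv hy hu) hx ?_)
    have h := inv_mem (htriv x hx)
    rwa [mul_inv_rev, inv_inv] at h

end IsPq

end Cfsg.Agent.PqFpf
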