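import Mathlib.GroupTheory.GroupAction.Quotient
import Mathlib.GroupTheory.OrderOfElement
import Mathlib.LinearAlgebra.Eigenspace.Triangularizable
import Mathlib.LinearAlgebra.Dimension.Constructions
import Mathlib.LinearAlgebra.TensorProduct.Tower
import Mathlib.Algebra.Order.Chebyshev
import Mathlib.FieldTheory.IsAlgClosed.AlgebraicClosure
import Mathlib.RingTheory.RootsOfUnity.AlgebraicallyClosed
import Mathlib.Algebra.Module.ZMod
import Mathlib.Tactic

/-!
An operator of prime order without fixed vectors on a module for a group of class two: the index of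
the radical is a square, bounded by the number of fixed cosets times the square of the order less
one.
-/

set_option autoImplicit false
set_option linter.style.haveILetI false
set_option linter.unusedSectionVars false

namespace Cfsg.Agent.PqFpf

open scoped BigOperators commutatorElement TensorProduct
open Module

universe u v w

section Orbits

variable {M : Type*} [Finite M]

/-- Counting the orbits of a permutation of prime order. -/
theorem exists_orbit_reps (g : Equiv.Perm M) {m : ℕ} (hm : m.Prime) (hg : g ^ m = 1) :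
    ∃ s : Finset M, (∀ x, ∃ y ∈ s, ∃ i : ℕ, (g ^ i) y = x) ∧
      m * s.card = Nat.card M + (m - 1) * Nat.card {x : M // g x = x} := by
  classical
  haveI := Fact.mk hm
  haveI := Fintype.ofFinite M
  by_cases h1 : g = 1
  · refine ⟨Finset.univ, fun x => ⟨x, Finset.mem_univ x, 0, rfl⟩, ?_⟩
    subst h1
    have he : Nat.card {x : M // (1 : Equiv.Perm M) x = x} = Nat.card M :=
      Nat.card_congr (Equiv.subtypeUnivEquiv fun _ => rfl)
    rw [he, Finset.card_univ, ← Nat.card_eq_fintype_card]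
    have : m = m - 1 + 1 := (Nat.succ_pred_eq_of_pos hm.pos).symm
    conv_lhs => rw [this]
    ring
  have ho : orderOf g = m := orderOf_eq_prime hg h1
  set Γ := Subgroup.zpowers g
  haveI := Fintype.ofFinite Γ
  letI : MulAction Γ M := MulAction.compHom M Γ.subtype
  haveI : Fintype (Quotient (MulAction.orbitRel Γ M)) := Fintype.ofFinite _
  refine ⟨Finset.univ.image fun ω : Quotient (MulAction.orbitRel Γ M) => ω.out, fun x => ?_, ?_⟩
  · have hrel : MulAction.orbitRel Γ M x (Quotient.mk (MulAction.orbitRel Γ M) x).out :=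
      Quotient.exact (Quotient.out_eq _).symm
    refine ⟨_, Finset.mem_image.2 ⟨Quotient.mk _ x, Finset.mem_univ _, rfl⟩, ?_⟩
    rw [MulAction.orbitRel_apply] at hrel
    obtain ⟨⟨a, ha⟩, hax⟩ := hrel
    obtain ⟨i, rfl⟩ := (isOfFinOrder_of_finite g).mem_powers_iff_mem_zpowers.2 ha
    exact ⟨i, hax⟩
  · rw [Finset.card_image_of_injective _ Quotient.out_injective, Finset.card_univ]
    have h := MulAction.sum_card_fixedBy_eq_card_orbits_mul_card_group Γ M
    have hcard : Fintype.card Γ = m := by rw [← Nat.card_eq_fintype_card, Nat.card_zpowers, ho]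
    have hfix : ∀ a : Γ, a ≠ 1 →
        Fintype.card (MulAction.fixedBy M a) = Nat.card {x : M // g x = x} := by
      rintro ⟨a, ha⟩ hne
      rw [← Nat.card_eq_fintype_card]
      refine Nat.card_congr (Equiv.subtypeEquivRight fun x => ?_)
      have hga : Subgroup.zpowers a = Γ := by
        refine Subgroup.eq_of_le_of_card_ge (Subgroup.zpowers_le.2 ha) ?_
        rw [Nat.card_zpowers, Nat.card_zpowers, ho,
          orderOf_eq_prime (p := m) (x := a) ?_ fun h => hne (Subtype.ext h)]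
        have := pow_card_eq_one (x := (⟨a, ha⟩ : Γ))
        rw [hcard] at this
        exact congrArg Subtype.val this
      constructor
      · intro hax
        have hax' : a ∈ MulAction.stabilizer (Equiv.Perm M) x := hax
        exact Subgroup.zpowers_le.2 hax' (hga.symm ▸ Subgroup.mem_zpowers g : g ∈ Subgroup.zpowers a)
      · intro hgx
        have hgx' : g ∈ MulAction.stabilizer (Equiv.Perm M) x := hgx
        exact Subgroup.zpowers_le.2 hgx' ha
    rw [← Finset.sum_erase_add _ _ (Finset.mem_univ (1 : Γ)),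
      Finset.sum_congr rfl fun a ha => hfix a (Finset.mem_erase.1 ha).1, Finset.sum_const,
      Finset.card_erase_of_mem (Finset.mem_univ _), Finset.card_univ, hcard, smul_eq_mul] at h
    have hone : Fintype.card (MulAction.fixedBy M (1 : Γ)) = Nat.card M := by
      rw [← Nat.card_eq_fintype_card]
      exact Nat.card_congr (Equiv.subtypeUnivEquiv fun x => one_smul _ x)
    rw [hone] at h
    rw [mul_comm m, ← h, add_comm]

end Orbits

section Field

variable {K : Type u} [Field K] {V : Type v} [AddCommGroup V] [Module K V] [FiniteDimensional K V]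

/-- The centralizer of an operator of prime order without fixed vectors is large. -/
theorem sq_finrank_le [IsAlgClosed K] {m : ℕ} (hm : m.Prime) (hmK : (m : K) ≠ 0) (σ : End K V)
    (hσ : σ ^ m = 1) (h1 : IsUnit (σ - 1)) (C : Submodule K (End K V))
    (hC : ∀ X, σ * X = X * σ → X ∈ C) :
    finrank K V ^ 2 ≤ (m - 1) * finrank K C := by
  classical
  haveI : NeZero (m : K) := ⟨hmK⟩
  obtain ⟨ζ, hζ⟩ := IsAlgClosed.exists_root (Polynomial.cyclotomic m K)
    (Polynomial.degree_cyclotomic_pos m K hm.pos).ne'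
  replace hζ : IsPrimitiveRoot ζ m := Polynomial.isRoot_cyclotomic_iff.1 hζ
  have hζ0 : ζ ≠ 0 := hζ.ne_zero hm.ne_zero
  let e : ℕ → End K V := fun j =>
    (m : K)⁻¹ • ∑ i ∈ Finset.range m, (ζ⁻¹) ^ (i * j) • σ ^ i
  have hσe : ∀ j, σ * e j = ζ ^ j • e j := by
    intro j
    simp only [e, mul_smul_comm, Finset.mul_sum]
    rw [smul_comm (ζ ^ j), Finset.smul_sum (r := ζ ^ j)]
    congr 1
    have hg : ∀ i, ((ζ⁻¹) ^ (i * j)) • (σ * σ ^ i) =
        (ζ ^ j * (ζ⁻¹) ^ ((i + 1) * j)) • σ ^ (i + 1) := by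
      intro i
      rw [pow_succ' σ, add_mul, one_mul, pow_add, mul_left_comm, ← mul_pow, mul_inv_cancel₀ hζ0,
        one_pow, mul_one]
    rw [Finset.sum_congr rfl fun i _ => hg i]
    simp only [smul_smul]
    have h2 := Finset.sum_range_succ' (fun i => (ζ ^ j * (ζ⁻¹) ^ (i * j)) • σ ^ i) m
    have h3 := Finset.sum_range_succ (fun i => (ζ ^ j * (ζ⁻¹) ^ (i * j)) • σ ^ i) m
    have h4 : (ζ⁻¹) ^ (m * j) = 1 := by
      rw [pow_mul, inv_pow, hζ.pow_eq_one, inv_one, one_pow]
    rw [h3, h4, hσ, Nat.zero_mul, pow_zero, pow_zero σ] at h2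
    exact (add_right_cancel h2).symm
  have he0 : e 0 = 0 := by
    have h2 : (σ - 1) * e 0 = 0 := by rw [sub_mul, hσe, pow_zero, one_smul, one_mul, sub_self]
    exact h1.mul_right_eq_zero.1 h2
  have hsum : ∑ j ∈ Finset.range m, e j = 1 := by
    simp only [e, ← Finset.smul_sum]
    rw [Finset.sum_comm]
    simp only [← Finset.sum_smul]
    have : ∀ i ∈ Finset.range m,
        (∑ j ∈ Finset.range m, (ζ⁻¹) ^ (i * j)) = if i = 0 then (m : K) else 0 := by
      intro i hi
      split_ifs with h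
      · subst h; simp
      · simp only [pow_mul]
        have hne : (ζ⁻¹) ^ i ≠ 1 := by
          rw [inv_pow, ne_eq, inv_eq_one]
          exact hζ.pow_ne_one_of_pos_of_lt h (Finset.mem_range.1 hi)
        rw [geom_sum_eq hne, ← pow_mul, mul_comm i m, pow_mul, inv_pow ζ m, hζ.pow_eq_one, inv_one,
          one_pow, sub_self, zero_div]
    rw [Finset.sum_congr rfl fun i hi => by rw [this i hi], Finset.sum_eq_single 0]
    · rw [if_pos rfl, pow_zero, smul_smul, inv_mul_cancel₀ hmK, one_smul]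
    · intro i _ hi
      rw [if_neg hi, zero_smul]
    · intro h
      exact absurd (Finset.mem_range.2 hm.pos) h
  have hpow : ∀ j i, σ ^ i * e j = (ζ ^ j) ^ i • e j := by
    intro j i
    induction i with
    | zero => simp
    | succ i ih => rw [pow_succ, mul_assoc, hσe, mul_smul_comm, ih, smul_smul, ← pow_succ']
  have hee : ∀ i ∈ Finset.range m, ∀ j ∈ Finset.range m,
      e i * e j = if i = j then e j else 0 := by
    intro i hi j hj
    have h2 : e i * e j = ((m : K)⁻¹ * ∑ k ∈ Finset.range m, ((ζ⁻¹) ^ i * ζ ^ j) ^ k) • e j := by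
      conv_lhs => arg 1; simp only [e]
      rw [smul_mul_assoc, Finset.sum_mul, mul_smul, Finset.sum_smul]
      congr 1
      refine Finset.sum_congr rfl fun k _ => ?_
      rw [smul_mul_assoc, hpow, smul_smul]
      simp only [mul_pow, ← pow_mul, mul_comm k i]
    rw [h2]
    split_ifs with h
    · subst h
      rw [← mul_pow, inv_mul_cancel₀ hζ0, one_pow]
      simp [inv_mul_cancel₀ hmK]
    · have hne : (ζ⁻¹) ^ i * ζ ^ j ≠ 1 := by
        rw [inv_pow, ne_eq, inv_mul_eq_one₀ (pow_ne_zero _ hζ0)]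
        exact fun h' => h (hζ.pow_inj (Finset.mem_range.1 hi) (Finset.mem_range.1 hj) h')
      rw [geom_sum_eq hne, mul_pow, ← pow_mul, ← pow_mul, mul_comm i m, mul_comm j m, pow_mul,
        pow_mul, inv_pow ζ m, hζ.pow_eq_one, inv_one, one_pow, one_pow, one_mul, sub_self,
        zero_div, mul_zero, zero_smul]
  -- the non-zero eigenspaces
  let ι := {j // j ∈ (Finset.range m).erase 0}
  let E : ι → Submodule K V := fun j => LinearMap.range (e j)
  have hι : ∀ i j : ι, e (i : ℕ) * e (j : ℕ) = if i = j then e (j : ℕ) else 0 := fun i j => by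
    rw [hee _ (Finset.mem_of_mem_erase i.2) _ (Finset.mem_of_mem_erase j.2)]
    by_cases h : i = j
    · subst h
      rw [if_pos rfl, if_pos rfl]
    · rw [if_neg h, if_neg fun h' => h (Subtype.ext h')]
  have hfix : ∀ (j : ι) (x : E j), e (j : ℕ) (x : V) = x := by
    rintro j ⟨_, u, rfl⟩
    change (e (j : ℕ) * e (j : ℕ)) u = e (j : ℕ) u
    rw [hι, if_pos rfl]
  have hzero : ∀ (i j : ι), i ≠ j → ∀ x : E j, e (i : ℕ) (x : V) = 0 := by
    rintro i j hij ⟨_, u, rfl⟩
    change (e (i : ℕ) * e (j : ℕ)) u = 0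
    rw [hι, if_neg hij, LinearMap.zero_apply]
  let Φ : V →ₗ[K] (∀ j : ι, E j) := LinearMap.pi fun j => (e (j : ℕ)).rangeRestrict
  have hΦ : Function.Bijective Φ := by
    refine ⟨fun u u' h => ?_, fun f => ⟨∑ j : ι, (f j : V), funext fun i => Subtype.ext ?_⟩⟩
    · have hu : ∀ u : V, u = ∑ j : ι, e (j : ℕ) u := by
        intro u
        conv_lhs => rw [← Module.End.one_apply (R := K) u, ← hsum]
        rw [LinearMap.sum_apply, ← Finset.sum_erase_add _ _ (Finset.mem_range.2 hm.pos), he0,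
          LinearMap.zero_apply, add_zero]
        exact (Finset.sum_coe_sort ((Finset.range m).erase 0) fun j => e j u).symm
      rw [hu u, hu u']
      exact Finset.sum_congr rfl fun j _ => congrArg Subtype.val (congrFun h j)
    · change e (i : ℕ) (∑ j : ι, (f j : V)) = (f i : V)
      rw [map_sum, Finset.sum_eq_single i]
      · exact hfix i (f i)
      · intro j _ hji
        exact hzero i j (Ne.symm hji) (f j)
      · intro h
        exact absurd (Finset.mem_univ i) h
  have hfr : finrank K V = ∑ j : ι, finrank K (E j) := by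
    rw [(LinearEquiv.ofBijective Φ hΦ).finrank_eq, Module.finrank_pi_fintype]
  let Ψ : (∀ j : ι, End K (E j)) →ₗ[K] End K V :=
    { toFun := fun F => ∑ j : ι, (E j).subtype ∘ₗ F j ∘ₗ (e (j : ℕ)).rangeRestrict
      map_add' := fun F F' => by
        simp only [Pi.add_apply, LinearMap.add_comp, LinearMap.comp_add, Finset.sum_add_distrib]
      map_smul' := fun c F => by
        simp only [Pi.smul_apply, LinearMap.smul_comp, LinearMap.comp_smul, Finset.smul_sum,
          RingHom.id_apply] }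
  have hΨ : ∀ (F : ∀ j : ι, End K (E j)) (u : V),
      Ψ F u = ∑ j : ι, (F j ((e (j : ℕ)).rangeRestrict u) : V) := fun F u => by
    simp [Ψ, LinearMap.sum_apply]
  have hΨinj : Function.Injective Ψ := by
    rw [injective_iff_map_eq_zero]
    intro F hF
    funext i
    refine LinearMap.ext fun x => Subtype.ext ?_
    have h := hΨ F (x : V)
    rw [hF, LinearMap.zero_apply, Finset.sum_eq_single i] at h
    · rw [show (e (i : ℕ)).rangeRestrict (x : V) = x from Subtype.ext (hfix i x)] at h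
      exact h.symm
    · intro j _ hji
      rw [show (e (j : ℕ)).rangeRestrict (x : V) = 0 from Subtype.ext (hzero j i hji x), map_zero]
      rfl
    · intro h'
      exact absurd (Finset.mem_univ i) h'
  have hσE : ∀ (j : ι) (x : E j), σ (x : V) = ζ ^ (j : ℕ) • (x : V) := fun j x => by
    conv_lhs => rw [← hfix j x]
    change (σ * e (j : ℕ)) (x : V) = _
    rw [hσe, LinearMap.smul_apply, hfix j x]
  have heσ : ∀ j : ℕ, e j * σ = ζ ^ j • e j := fun j => by
    rw [← hσe]
    simp only [e, smul_mul_assoc, mul_smul_comm, Finset.sum_mul, Finset.mul_sum]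
    refine congrArg _ (Finset.sum_congr rfl fun i _ => ?_)
    rw [← pow_succ, ← pow_succ']
  have hΨC : LinearMap.range Ψ ≤ C := by
    rintro _ ⟨F, rfl⟩
    refine hC _ (LinearMap.ext fun u => ?_)
    change σ (Ψ F u) = Ψ F (σ u)
    rw [hΨ, hΨ, map_sum]
    refine Finset.sum_congr rfl fun j _ => ?_
    rw [hσE]
    have : (e (j : ℕ)).rangeRestrict (σ u) = ζ ^ (j : ℕ) • (e (j : ℕ)).rangeRestrict u :=
      Subtype.ext (by
        change (e (j : ℕ) * σ) u = ζ ^ (j : ℕ) • e (j : ℕ) u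
        rw [heσ, LinearMap.smul_apply])
    rw [this, map_smul, Submodule.coe_smul]
  have hdim : ∑ j : ι, finrank K (E j) ^ 2 ≤ finrank K C := by
    refine le_trans (le_of_eq ?_) (Submodule.finrank_mono hΨC)
    rw [LinearMap.finrank_range_of_inj hΨinj, Module.finrank_pi_fintype]
    exact Finset.sum_congr rfl fun j _ => by rw [Module.finrank_linearMap, pow_two]
  have hcard : (Finset.univ : Finset ι).card = m - 1 := by
    rw [Finset.card_univ, Fintype.card_coe, Finset.card_erase_of_mem (Finset.mem_range.2 hm.pos),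
      Finset.card_range]
  calc finrank K V ^ 2 = (∑ j : ι, finrank K (E j)) ^ 2 := by rw [hfr]
    _ ≤ (Finset.univ : Finset ι).card * ∑ j : ι, finrank K (E j) ^ 2 := sq_sum_le_card_mul_sum_sq
    _ ≤ (m - 1) * finrank K C := by rw [hcard]; exact Nat.mul_le_mul_left _ hdim

variable {Q : Type w} [Group Q] [Finite Q]

/-- The map on the quotient by a stable normal subgroup. -/
abbrev qmap (ψ : MulAut Q) (Rad : Subgroup Q) [Rad.Normal] (hR : ∀ y ∈ Rad, ψ y ∈ Rad) :
    Q ⧸ Rad →* Q ⧸ Rad :=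
  QuotientGroup.map Rad Rad ψ.toMonoidHom fun y hy => hR y hy

/-- The hypotheses for the bound. -/
structure Setup (ρ : Q →* End K V) (σ : End K V) (ψ : MulAut Q) (m : ℕ) (Rad : Subgroup Q) :
    Prop where
  hm : m.Prime
  hmK : (m : K) ≠ 0
  hQK : (Nat.card Q : K) ≠ 0
  hσ : σ ^ m = 1
  hψ : ψ ^ m = 1
  compat : ∀ x, σ * ρ x = ρ (ψ x) * σ
  noFix : IsUnit (σ - 1)
  hRad : ∀ y : Q, y ∈ Rad ↔ ∀ a : Q, ρ ⁅a, y⁆ = 1
  hcl2 : ∀ x a y : Q, ρ x * ρ ⁅a, y⁆ = ρ ⁅a, y⁆ * ρ x
  hsemi : ∀ a y : Q, ρ ⁅a, y⁆ ≠ 1 → IsUnit (ρ ⁅a, y⁆ - 1)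
  hfix : ∀ e, e⁻¹ * ψ e ∈ Rad → ρ (ψ e) = ρ e

/-- The irreducible case. -/
theorem bound_of_irreducible [IsAlgClosed K] [Nontrivial V] {ρ : Q →* End K V} {σ : End K V}
    {ψ : MulAut Q} {m : ℕ} {Rad : Subgroup Q} [Rad.Normal] (S : Setup ρ σ ψ m Rad)
    (hR : ∀ y ∈ Rad, ψ y ∈ Rad)
    (hirr : ∀ W : Submodule K V, (∀ x, ∀ u ∈ W, ρ x u ∈ W) → (∀ u ∈ W, σ u ∈ W) →
      W = ⊥ ∨ W = ⊤) :
    ∃ d, Nat.card (Q ⧸ Rad) = d ^ 2 ∧
      Nat.card (Q ⧸ Rad) ≤
        (m - 1) ^ 2 * Nat.card {x : Q ⧸ Rad // qmap ψ Rad hR x = x} := by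
  classical
  haveI := Fintype.ofFinite Q
  haveI := Fintype.ofFinite (Q ⧸ Rad)
  haveI := Fintype.ofFinite Rad
  have ρmul : ∀ x y, ρ x * ρ y = ρ (x * y) := fun x y => (map_mul ρ x y).symm
  have ρinv : ∀ x, ρ x * ρ x⁻¹ = 1 := fun x => by rw [ρmul, mul_inv_cancel, map_one]
  have ρinv' : ∀ x, ρ x⁻¹ * ρ x = 1 := fun x => by rw [ρmul, inv_mul_cancel, map_one]
  have hσinv : σ * σ ^ (m - 1) = 1 := by
    rw [← pow_succ', Nat.sub_add_cancel S.hm.pos, S.hσ]
  have hσu : IsUnit σ := IsUnit.of_pow_eq_one S.hσ S.hm.ne_zero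
  -- central operators are scalars
  have hsc2 : ∀ X : End K V, (∀ x, X * ρ x = ρ x * X) → σ * X = X * σ →
      ∃ c : K, X = c • 1 := by
    intro X hX hXσ
    obtain ⟨c, hc⟩ := Module.End.exists_eigenvalue X
    refine ⟨c, LinearMap.ext fun u => ?_⟩
    obtain ⟨u₀, hu₀⟩ := hc.exists_hasEigenvector
    rcases hirr (Module.End.eigenspace X c)
      (fun x v hv => by
        rw [Module.End.mem_eigenspace_iff] at hv ⊢
        change (X * ρ x) v = _
        rw [hX, Module.End.mul_apply, hv, map_smul])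
      (fun v hv => by
        rw [Module.End.mem_eigenspace_iff] at hv ⊢
        change (X * σ) v = _
        rw [← hXσ, Module.End.mul_apply, hv, map_smul]) with h | h
    · exact absurd (h ▸ hu₀.1 : u₀ ∈ (⊥ : Submodule K V)) (by simpa using hu₀.2)
    · rw [LinearMap.smul_apply, Module.End.one_apply]
      exact Module.End.mem_eigenspace_iff.1 (h ▸ Submodule.mem_top : u ∈ Module.End.eigenspace X c)
  -- averaging
  set P : End K V → End K V := fun X => ∑ e : Q, ρ e * X * ρ e⁻¹ with hP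
  have hPcomm : ∀ X x, P X * ρ x = ρ x * P X := by
    intro X x
    simp only [hP, Finset.sum_mul, Finset.mul_sum]
    refine (Fintype.sum_equiv (Equiv.mulLeft x) _ _ fun e => ?_).symm
    simp only [Equiv.coe_mulLeft, mul_assoc, ρmul, mul_inv_rev]
    simp only [← mul_assoc, ρmul]
    congr 2
    group
  have hcen : ∀ q ∈ Rad, ∀ x, ρ q * ρ x = ρ x * ρ q := by
    intro q hq x
    rw [ρmul, ρmul, show x * q = ⁅x, q⁆ * (q * x) by rw [commutatorElement_def]; group]
    rw [map_mul ρ ⁅x, q⁆, (S.hRad q).1 hq x, one_mul]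
  have hPzero : ∀ y, y ∉ Rad → P (ρ y) = 0 := by
    intro y hy
    obtain ⟨w, hw⟩ : ∃ w : Q, ρ ⁅w, y⁆ ≠ 1 := by
      by_contra h
      push Not at h
      exact hy ((S.hRad y).2 h)
    have h2 : P (ρ y) = ρ ⁅w, y⁆ * P (ρ y) := by
      simp only [hP, Finset.mul_sum]
      refine (Fintype.sum_equiv (Equiv.mulRight w) _ _ fun e => ?_).symm
      simp only [Equiv.coe_mulRight]
      rw [← mul_assoc, ← mul_assoc, ← S.hcl2]
      simp only [ρmul, mul_inv_rev, commutatorElement_def]
      congr 1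
      group
    have h3 : (ρ ⁅w, y⁆ - 1) * P (ρ y) = 0 := by rw [sub_mul, one_mul, ← h2, sub_self]
    exact (S.hsemi w y hw).mul_right_eq_zero.1 h3
  have hPrad : ∀ q ∈ Rad, P (ρ q) = (Nat.card Q : K) • ρ q := by
    intro q hq
    rw [hP, Nat.card_eq_fintype_card, Nat.cast_smul_eq_nsmul, ← Finset.card_univ,
      ← Finset.sum_const]
    exact Finset.sum_congr rfl fun e _ => by
      rw [← hcen q hq e, mul_assoc, ρinv, mul_one]
  have hPfix : ∀ e, e * (ψ e)⁻¹ ∈ Rad → ρ (e * (ψ e)⁻¹) = 1 := by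
    intro e he
    have he' : e⁻¹ * ψ e ∈ Rad := by
      have := (inferInstance : Rad.Normal).conj_mem _ (inv_mem he) e⁻¹
      rw [show e⁻¹ * (e * (ψ e)⁻¹)⁻¹ * e⁻¹⁻¹ = e⁻¹ * ψ e by group] at this
      exact this
    rw [← ρmul, ← S.hfix e he', ρmul, mul_inv_cancel, map_one]
  -- the intertwiner
  set T : End K V := ∑ e : Q, ρ (e * (ψ e)⁻¹) with hT
  have hTρ : ∀ x, T * σ * ρ x = ρ x * (T * σ) := by
    intro x
    rw [mul_assoc, S.compat, ← mul_assoc, ← mul_assoc]
    congr 1
    simp only [hT, Finset.sum_mul, Finset.mul_sum, ρmul]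
    refine (Fintype.sum_equiv (Equiv.mulLeft x) _ _ fun e => ?_).symm
    simp only [Equiv.coe_mulLeft, map_mul ψ]
    congr 1
    group
  have hTσ : σ * (T * σ) = T * σ * σ := by
    rw [← mul_assoc]
    congr 1
    simp only [hT, Finset.sum_mul, Finset.mul_sum, S.compat, map_mul ψ, map_inv ψ]
    exact Fintype.sum_equiv ψ.toEquiv _ _ fun e => rfl
  obtain ⟨c, hc⟩ := hsc2 _ hTρ hTσ
  have hc0 : c ≠ 0 := by
    rintro rfl
    rw [zero_smul] at hc
    have hT0 : T = 0 := by
      calc T = T * (σ * σ ^ (m - 1)) := by rw [hσinv, mul_one]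
        _ = 0 := by rw [← mul_assoc, hc, zero_mul]
    have hPadd : P T = ∑ e : Q, P (ρ (e * (ψ e)⁻¹)) := by
      simp only [hP, hT, Finset.mul_sum, Finset.sum_mul]
      exact Finset.sum_comm
    have h1 : P T = ((Nat.card {e : Q // e * (ψ e)⁻¹ ∈ Rad} : K) * (Nat.card Q : K)) • (1 : End K V) := by
      rw [hPadd, ← Finset.sum_filter_add_sum_filter_not _ (fun e => e * (ψ e)⁻¹ ∈ Rad),
        Finset.sum_congr rfl fun e he => by
          rw [hPrad _ (Finset.mem_filter.1 he).2, hPfix _ (Finset.mem_filter.1 he).2],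
        Finset.sum_eq_zero (s := Finset.univ.filter fun e => ¬ e * (ψ e)⁻¹ ∈ Rad) fun e he =>
          hPzero _ (Finset.mem_filter.1 he).2, add_zero, Finset.sum_const, ← Nat.cast_smul_eq_nsmul K,
        smul_smul, Nat.card_eq_fintype_card (α := {e : Q // e * (ψ e)⁻¹ ∈ Rad}), Fintype.card_subtype]
    have hPT0 : P T = 0 := by simp [hP, hT0]
    rw [hPT0, eq_comm] at h1
    rcases smul_eq_zero.1 h1 with h1 | h1
    · rcases mul_eq_zero.1 h1 with h2 | h2
      · let G₀ : Subgroup Q :=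
          { carrier := {e | e * (ψ e)⁻¹ ∈ Rad}
            one_mem' := by simp
            mul_mem' := fun {a b} ha hb => by
              simp only [Set.mem_ofPred_eq] at ha hb ⊢
              have e1 : a * b * (ψ (a * b))⁻¹ =
                  a * (b * (ψ b)⁻¹) * a⁻¹ * (a * (ψ a)⁻¹) := by
                rw [map_mul]; group
              rw [e1]
              exact mul_mem ((inferInstance : Rad.Normal).conj_mem _ hb a) ha
            inv_mem' := fun {a} ha => by
              simp only [Set.mem_ofPred_eq] at ha ⊢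
              have e1 : a⁻¹ * (ψ a⁻¹)⁻¹ = a⁻¹ * (a * (ψ a)⁻¹)⁻¹ * a⁻¹⁻¹ := by
                rw [map_inv]; group
              rw [e1]
              exact (inferInstance : Rad.Normal).conj_mem _ (inv_mem ha) a⁻¹ }
        obtain ⟨k, hk⟩ := Subgroup.card_subgroup_dvd_card G₀
        refine S.hQK ?_
        rw [hk, Nat.cast_mul, show (Nat.card G₀ : K) = 0 from h2, zero_mul]
      · exact S.hQK h2
    · exact one_ne_zero h1
  have hsc : ∀ X : End K V, (∀ x, X * ρ x = ρ x * X) → ∃ c : K, X = c • 1 := by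
    intro X hX
    refine hsc2 X hX ?_
    have hXT : X * T = T * X := by
      simp only [hT, Finset.mul_sum, Finset.sum_mul, hX]
    have hTu : IsUnit T := by
      have : T = c • σ ^ (m - 1) := by
        calc T = T * (σ * σ ^ (m - 1)) := by rw [hσinv, mul_one]
          _ = c • σ ^ (m - 1) := by rw [← mul_assoc, hc, smul_mul_assoc, one_mul]
      refine IsUnit.of_mul_eq_one (c⁻¹ • σ) ?_
      rw [mul_smul_comm, hc, smul_smul, inv_mul_cancel₀ hc0, one_smul]
    refine hTu.mul_left_cancel ?_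
    calc T * (σ * X) = T * σ * X := (mul_assoc _ _ _).symm
      _ = X * (T * σ) := by rw [hc, smul_mul_assoc, one_mul, mul_smul_comm, mul_one]
      _ = T * (X * σ) := by rw [← mul_assoc, hXT, mul_assoc]
  have hradc : ∀ q ∈ Rad, ∃ c : K, ρ q = c • 1 := fun q hq => hsc _ (hcen q hq)
  -- a basis
  let r : Q ⧸ Rad → Q := Quotient.out
  have hr : ∀ x, (r x : Q ⧸ Rad) = x := fun x => Quotient.out_eq x
  have hindep : LinearIndependent K fun x : Q ⧸ Rad => ρ (r x) := by
    rw [Fintype.linearIndependent_iff]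
    intro a ha x₀
    have h1 := congrArg (fun X => P (X * ρ (r x₀)⁻¹)) ha
    simp only [zero_mul] at h1
    rw [show P (0 : End K V) = 0 by simp [hP]] at h1
    have h2 : P ((∑ x, a x • ρ (r x)) * ρ (r x₀)⁻¹) = ∑ x, a x • P (ρ (r x * (r x₀)⁻¹)) := by
      simp only [hP, Finset.mul_sum, Finset.sum_mul, Finset.smul_sum, smul_mul_assoc,
        mul_smul_comm, ρmul]
      exact Finset.sum_comm
    rw [h2, Finset.sum_eq_single x₀] at h1
    · rw [mul_inv_cancel, hPrad 1 (one_mem _), map_one, smul_smul, smul_eq_zero, mul_eq_zero] at h1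
      exact (h1.resolve_right one_ne_zero).resolve_right S.hQK
    · intro x _ hx
      rw [hPzero _ fun h => hx ?_, smul_zero]
      rw [← hr x, ← hr x₀, QuotientGroup.eq]
      have := (inferInstance : Rad.Normal).conj_mem _ (inv_mem h) (r x)⁻¹
      rw [show (r x)⁻¹ * (r x * (r x₀)⁻¹)⁻¹ * (r x)⁻¹⁻¹ = (r x)⁻¹ * r x₀ by group] at this
      exact this
    · intro h
      exact absurd (Finset.mem_univ _) h
  have hspan : ⊤ ≤ Submodule.span K (Set.range fun x : Q ⧸ Rad => ρ (r x)) := by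
    intro X _
    have hinner : ∀ e, e ∉ Rad →
        ∑ x : Q ⧸ Rad, ρ ⁅e, r x⁆ = 0 := by
      intro e he
      obtain ⟨y, hy⟩ : ∃ y, ρ ⁅e, y⁆ ≠ 1 := by
        by_contra h
        push Not at h
        refine he ((S.hRad e).2 fun w => ?_)
        have := congrArg (ρ ⁅w, e⁆ * ·) (h w)
        simp only [mul_one, ρmul] at this
        rw [← commutatorElement_inv e w, inv_mul_cancel, map_one] at this
        exact (this.trans (congrArg ρ (commutatorElement_inv e w))).symm
      have h2 : ∑ x : Q ⧸ Rad, ρ ⁅e, r x⁆ = ρ ⁅e, y⁆ * ∑ x : Q ⧸ Rad, ρ ⁅e, r x⁆ := by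
        rw [Finset.mul_sum]
        refine (Fintype.sum_equiv (Equiv.mulLeft (y : Q ⧸ Rad)) _ _ fun x => ?_).symm
        simp only [Equiv.coe_mulLeft]
        have hq : (y * r x)⁻¹ * r ((y : Q ⧸ Rad) * x) ∈ Rad := by
          rw [← QuotientGroup.eq, QuotientGroup.mk_mul, hr, hr]
        have key : ∀ a b, ρ ⁅e, a * b⁆ = ρ ⁅e, a⁆ * ρ ⁅e, b⁆ := fun a b => by
          rw [show ⁅e, a * b⁆ = ⁅e, a⁆ * (a * ⁅e, b⁆ * a⁻¹) by
            simp only [commutatorElement_def]; group, map_mul, map_mul, map_mul, S.hcl2,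
            mul_assoc (ρ ⁅e, b⁆), ρinv, mul_one]
        rw [show r ((y : Q ⧸ Rad) * x) = (y * r x) * ((y * r x)⁻¹ * r ((y : Q ⧸ Rad) * x)) by group,
          key, key, (S.hRad _).1 hq e, mul_one]
      have h3 : (ρ ⁅e, y⁆ - 1) * ∑ x : Q ⧸ Rad, ρ ⁅e, r x⁆ = 0 := by
        rw [sub_mul, one_mul, ← h2, sub_self]
      exact (S.hsemi e y hy).mul_right_eq_zero.1 h3
    have hid : ∑ x : Q ⧸ Rad, P (X * ρ (r x)) * ρ (r x)⁻¹ = (Nat.card Q : K) • X := by
      have hterm : ∀ (x : Q ⧸ Rad) (e : Q), ρ e * (X * ρ (r x)) * ρ e⁻¹ * ρ (r x)⁻¹ =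
          ρ e * X * ρ e⁻¹ * ρ ⁅e, r x⁆ := fun x e => by
        simp only [mul_assoc, ρmul]
        congr 3
        rw [commutatorElement_def]
        group
      simp only [hP, Finset.sum_mul, hterm]
      rw [Finset.sum_comm]
      simp only [← Finset.mul_sum]
      rw [← Finset.sum_filter_add_sum_filter_not _ (fun e => e ∈ Rad),
        Finset.sum_eq_zero (s := Finset.univ.filter fun e => ¬ e ∈ Rad) fun e he => by
          rw [hinner e (Finset.mem_filter.1 he).2, mul_zero], add_zero,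
        Finset.sum_congr rfl fun e he => ?_, Finset.sum_const,
        ← Fintype.card_subtype, ← Nat.cast_smul_eq_nsmul K, smul_smul, ← Nat.cast_mul]
      · rw [← Nat.card_eq_fintype_card]
        congr 2
        rw [Subgroup.card_eq_card_quotient_mul_card_subgroup Rad, mul_comm]
      · have he' := (Finset.mem_filter.1 he).2
        obtain ⟨a, ha⟩ := hradc e he'
        have ha' : ρ e * X * ρ e⁻¹ = X := by
          rw [show ρ e * X = X * ρ e by rw [ha, smul_mul_assoc, one_mul, mul_smul_comm, mul_one],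
            mul_assoc, ρinv, mul_one]
        rw [ha', Finset.sum_congr rfl fun x _ => ?_, Finset.sum_const, Finset.card_univ,
          ← Nat.card_eq_fintype_card (α := Q ⧸ Rad), ← Nat.cast_smul_eq_nsmul K, mul_smul_comm,
          mul_one]
        have h5 := (S.hRad e).1 he' (r x)
        rw [← commutatorElement_inv (r x) e]
        calc ρ ⁅r x, e⁆⁻¹ = ρ ⁅r x, e⁆ * ρ ⁅r x, e⁆⁻¹ := by rw [h5, one_mul]
          _ = 1 := ρinv _
    have hmem : (Nat.card Q : K) • X ∈ Submodule.span K (Set.range fun x : Q ⧸ Rad => ρ (r x)) := by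
      rw [← hid]
      refine Submodule.sum_mem _ fun x _ => ?_
      obtain ⟨a, ha⟩ := hsc _ (hPcomm (X * ρ (r x)))
      rw [ha, smul_mul_assoc, one_mul]
      refine Submodule.smul_mem _ _ ?_
      set z := (r ((x : Q ⧸ Rad)⁻¹))⁻¹ * (r x)⁻¹ with hz
      have hzR : z ∈ Rad := by
        rw [hz, ← QuotientGroup.eq, hr, QuotientGroup.mk_inv, hr]
      obtain ⟨b, hb⟩ := hradc z hzR
      rw [show (r x)⁻¹ = r ((x : Q ⧸ Rad)⁻¹) * z by rw [hz]; group, map_mul, hb, mul_smul_comm,
        mul_one]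
      exact Submodule.smul_mem _ _ (Submodule.subset_span ⟨_, rfl⟩)
    have := Submodule.smul_mem _ ((Nat.card Q : K))⁻¹ hmem
    rwa [smul_smul, inv_mul_cancel₀ S.hQK, one_smul] at this
  have hdim : finrank K (End K V) = Nat.card (Q ⧸ Rad) := by
    rw [finrank_eq_card_basis (Basis.mk hindep hspan), Nat.card_eq_fintype_card]
  rw [Module.finrank_linearMap, ← pow_two] at hdim
  -- the centralizer of the operator
  set L : End K V →ₗ[K] End K V :=
    ∑ i ∈ Finset.range m, (LinearMap.mulLeft K (σ ^ i)).comp (LinearMap.mulRight K (σ ^ (m - i)))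
  have hL : ∀ X, L X = ∑ i ∈ Finset.range m, σ ^ i * X * σ ^ (m - i) := fun X => by
    simp [L, LinearMap.sum_apply, mul_assoc]
  have hLshift : ∀ X, L (σ * X * σ ^ (m - 1)) = L X := by
    intro X
    rw [hL, hL]
    have h2 := Finset.sum_range_succ' (fun i => σ ^ i * X * σ ^ (m - i)) m
    have h3 := Finset.sum_range_succ (fun i => σ ^ i * X * σ ^ (m - i)) m
    rw [h3, Nat.sub_self, pow_zero σ, Nat.sub_zero, S.hσ, one_mul, mul_one] at h2
    rw [add_right_cancel h2]
    refine Finset.sum_congr rfl fun i hi => ?_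
    rw [pow_succ, mul_assoc (σ ^ i) σ X]
    simp only [mul_assoc]
    rw [← pow_add, show m - 1 + (m - i) = m + (m - (i + 1)) by
      have := Finset.mem_range.1 hi; omega, pow_add, S.hσ, one_mul]
  obtain ⟨reps, hreps, hcount⟩ := exists_orbit_reps
    ({ toFun := qmap ψ Rad hR
       invFun := qmap (ψ ^ (m - 1)) Rad fun y hy => by
        induction (m - 1) with
        | zero => simpa using hy
        | succ k ih => rw [pow_succ', MulAut.mul_apply]; exact hR _ ih
       left_inv := fun x => QuotientGroup.induction_on x fun q => congrArg (QuotientGroup.mk (s := Rad))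
        (by
          change (ψ ^ (m - 1)) (ψ q) = q
          rw [← MulAut.mul_apply, ← pow_succ, Nat.sub_add_cancel S.hm.pos, S.hψ, MulAut.one_apply])
       right_inv := fun x => QuotientGroup.induction_on x fun q => congrArg (QuotientGroup.mk (s := Rad))
        (by
          change ψ ((ψ ^ (m - 1)) q) = q
          rw [← MulAut.mul_apply, ← pow_succ', Nat.sub_add_cancel S.hm.pos, S.hψ, MulAut.one_apply]) } :
      Equiv.Perm (Q ⧸ Rad)) S.hm (by
    refine Equiv.ext fun x => QuotientGroup.induction_on x fun q => ?_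
    have : ∀ k : ℕ, ∀ q : Q, (qmap ψ Rad hR)^[k] (q : Q ⧸ Rad) = ((ψ ^ k) q : Q) := by
      intro k
      induction k with
      | zero => intro q; rfl
      | succ k ih => intro q; rw [Function.iterate_succ_apply', ih, pow_succ', MulAut.mul_apply]; rfl
    rw [Equiv.Perm.coe_pow]
    refine (this m q).trans ?_
    rw [S.hψ]
    rfl)
  set Cσ := Submodule.span K (reps.image fun x => L (ρ (r x)) : Set (End K V)) with hCσ
  have hCσcard : finrank K Cσ ≤ reps.card :=
    (finrank_span_finset_le_card _).trans Finset.card_image_le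
  have hLmem : ∀ X, L X ∈ Cσ := by
    intro X
    induction hspan (Submodule.mem_top : X ∈ ⊤) using Submodule.span_induction with
    | mem X hX =>
      obtain ⟨x, rfl⟩ := hX
      obtain ⟨y, hy, i, hi⟩ := hreps x
      change L (ρ (r x)) ∈ Cσ
      clear X
      induction i generalizing x with
      | zero =>
        rw [← hi]
        exact Submodule.subset_span (Finset.mem_coe.2 (Finset.mem_image_of_mem _ hy))
      | succ i ih =>
        rw [pow_succ', Equiv.Perm.mul_apply] at hi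
        rw [← hi]
        have ih' := ih _ rfl
        generalize (({ toFun := _, invFun := _, left_inv := _, right_inv := _ } :
          Equiv.Perm (Q ⧸ Rad)) ^ i) y = x' at ih'
        change L (ρ (r (qmap ψ Rad hR x'))) ∈ Cσ
        set z := (ψ (r x'))⁻¹ * r (qmap ψ Rad hR x') with hz
        have hzR : z ∈ Rad := by
          rw [hz, ← QuotientGroup.eq, hr]
          conv_rhs => rw [← hr x']
          rfl
        obtain ⟨b, hb⟩ := hradc z hzR
        have hσρ : ρ (ψ (r x')) = σ * ρ (r x') * σ ^ (m - 1) := by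
          rw [S.compat, mul_assoc, hσinv, mul_one]
        rw [show r (qmap ψ Rad hR x') = ψ (r x') * z by rw [hz]; group, map_mul, hb, mul_smul_comm,
          mul_one, map_smul, hσρ, hLshift]
        exact Submodule.smul_mem _ _ ih'
    | zero => rw [map_zero]; exact zero_mem _
    | add X Y _ _ h h' => rw [map_add]; exact add_mem h h'
    | smul a X _ h => rw [map_smul]; exact Submodule.smul_mem _ _ h
  have hle := sq_finrank_le S.hm S.hmK σ S.hσ S.noFix Cσ fun X hX => by
    have h1 : L X = (m : K) • X := by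
      rw [hL, Nat.cast_smul_eq_nsmul, Finset.sum_congr rfl fun i hi => ?_, Finset.sum_const,
        Finset.card_range]
      have hpow : σ ^ i * X = X * σ ^ i := (Commute.pow_left hX i).eq
      rw [hpow, mul_assoc, ← pow_add, Nat.add_sub_cancel' (Finset.mem_range.1 hi).le, S.hσ, mul_one]
    have := Submodule.smul_mem _ (m : K)⁻¹ (hLmem X)
    rwa [h1, smul_smul, inv_mul_cancel₀ S.hmK, one_smul] at this
  refine ⟨finrank K V, hdim.symm, ?_⟩
  rw [hdim] at hle
  have h1 : Nat.card (Q ⧸ Rad) ≤ (m - 1) * reps.card :=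
    hle.trans (Nat.mul_le_mul_left _ hCσcard)
  obtain ⟨k, hk⟩ : ∃ k, m = k + 1 := ⟨m - 1, (Nat.succ_pred_eq_of_pos S.hm.pos).symm⟩
  subst hk
  simp only [Nat.add_sub_cancel] at h1 hcount ⊢
  have hcount' : (k + 1) * reps.card = Nat.card (Q ⧸ Rad) +
      k * Nat.card {x : Q ⧸ Rad // qmap ψ Rad hR x = x} := hcount
  nlinarith [hcount', h1]

/-- The bound over an algebraically closed field. -/
theorem bound_field [IsAlgClosed K] [Nontrivial V] {ρ : Q →* End K V} {σ : End K V}
    {ψ : MulAut Q} {m : ℕ} {Rad : Subgroup Q} [Rad.Normal] (S : Setup ρ σ ψ m Rad)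
    (hR : ∀ y ∈ Rad, ψ y ∈ Rad) :
    ∃ d, Nat.card (Q ⧸ Rad) = d ^ 2 ∧
      Nat.card (Q ⧸ Rad) ≤
        (m - 1) ^ 2 * Nat.card {x : Q ⧸ Rad // qmap ψ Rad hR x = x} := by
  classical
  have hex : ∃ n, ∃ W : Submodule K V, W ≠ ⊥ ∧ (∀ x, ∀ u ∈ W, ρ x u ∈ W) ∧
      (∀ u ∈ W, σ u ∈ W) ∧ finrank K W = n :=
    ⟨_, ⊤, top_ne_bot, fun _ _ _ => trivial, fun _ _ => trivial, rfl⟩
  obtain ⟨W, hWne, hWρ, hWσ, hWn⟩ := Nat.find_spec hex
  haveI : Nontrivial W := Submodule.nontrivial_iff_ne_bot.2 hWne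
  let ρ' : Q →* End K W :=
    { toFun := fun x => (ρ x).restrict (hWρ x)
      map_one' := LinearMap.ext fun u => Subtype.ext (by
        change ρ 1 (u : V) = (u : V)
        rw [map_one]; rfl)
      map_mul' := fun x y => LinearMap.ext fun u => Subtype.ext (by
        change ρ (x * y) (u : V) = ρ x (ρ y (u : V))
        rw [map_mul]; rfl) }
  let σ' : End K W := σ.restrict hWσ
  have hval : ∀ x (u : W), ((ρ' x u : W) : V) = ρ x (u : V) := fun _ _ => rfl
  have hone : ∀ {x}, ρ x = 1 → ρ' x = 1 := fun {x} h => LinearMap.ext fun u => Subtype.ext (by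
    rw [hval, h]; rfl)
  have hunit : ∀ {f : End K W} {g : End K V}, (∀ u : W, ((f u : W) : V) = g (u : V)) → IsUnit g →
      IsUnit f := by
    intro f g hfg hg
    rw [Module.End.isUnit_iff] at hg ⊢
    have hinj : Function.Injective f := fun a b h =>
      Subtype.ext (hg.1 (by rw [← hfg, ← hfg, h]))
    exact ⟨hinj, LinearMap.surjective_of_injective hinj⟩
  have hne : ∀ w y : Q, ρ ⁅w, y⁆ ≠ 1 → IsUnit (ρ' ⁅w, y⁆ - 1) := fun w y h =>
    hunit (fun u => rfl) (S.hsemi w y h)
  have hpow : ∀ (k : ℕ) (u : W), ((((σ' ^ k) u : W)) : V) = (σ ^ k) (u : V) := by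
    intro k
    induction k with
    | zero => intro u; rfl
    | succ k ih =>
      intro u
      rw [pow_succ', pow_succ', Module.End.mul_apply, Module.End.mul_apply, ← ih]
      rfl
  have S' : Setup ρ' σ' ψ m Rad :=
    { hm := S.hm, hmK := S.hmK, hQK := S.hQK, hψ := S.hψ
      hσ := LinearMap.ext fun u => Subtype.ext (by rw [hpow, S.hσ]; rfl)
      compat := fun x => LinearMap.ext fun u => Subtype.ext (by
        change (σ * ρ x) (u : V) = (ρ (ψ x) * σ) (u : V)
        rw [S.compat])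
      noFix := hunit (fun u => rfl) S.noFix
      hRad := fun y => by
        rw [S.hRad]
        refine ⟨fun h w => hone (h w), fun h w => ?_⟩
        by_contra hc
        have := hne w y hc
        rw [h w, sub_self] at this
        exact not_isUnit_zero this
      hcl2 := fun x w y => LinearMap.ext fun u => Subtype.ext (by
        change (ρ x * ρ ⁅w, y⁆) (u : V) = (ρ ⁅w, y⁆ * ρ x) (u : V)
        rw [S.hcl2])
      hsemi := fun w y h => hne w y fun h' => h (hone h')
      hfix := fun e he => LinearMap.ext fun u => Subtype.ext (by rw [hval, hval, S.hfix e he]) }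
  refine bound_of_irreducible S' hR fun W' hρ hσ => ?_
  by_cases hb : W' = ⊥
  · exact Or.inl hb
  refine Or.inr (Submodule.eq_top_of_finrank_eq ?_)
  refine le_antisymm (Submodule.finrank_le W') ?_
  rw [hWn, (Submodule.equivMapOfInjective W.subtype W.injective_subtype W').finrank_eq]
  refine Nat.find_min' hex ⟨W'.map W.subtype, ?_, ?_, ?_, rfl⟩
  · exact fun h => hb (Submodule.map_injective_of_injective W.injective_subtype
      (h.trans (Submodule.map_bot _).symm))
  · rintro x _ ⟨u, hu, rfl⟩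
    exact ⟨_, hρ x u hu, rfl⟩
  · rintro _ ⟨u, hu, rfl⟩
    exact ⟨_, hσ u hu, rfl⟩

end Field

/-- An additive endomorphism as a linear one over the prime field. -/
def toLinEnd (ℓ : ℕ) (U : Type*) [AddCommGroup U] [Module (ZMod ℓ) U] :
    AddMonoid.End U →+* Module.End (ZMod ℓ) U where
  toFun f := AddMonoidHom.toZModLinearMap ℓ f
  map_one' := rfl
  map_mul' _ _ := rfl
  map_zero' := rfl
  map_add' _ _ := rfl

/-- The bound after extending the scalars. -/
theorem bound_aux {Q : Type w} [Group Q] [Finite Q] {U : Type v} [AddCommGroup U] [Finite U]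
    [Nontrivial U] {ℓ m : ℕ} [Fact ℓ.Prime] [Module (ZMod ℓ) U]
    (K : Type) [Field K] [IsAlgClosed K] [CharP K ℓ] [Algebra (ZMod ℓ) K] (hm : m.Prime)
    (hmℓ : m ≠ ℓ) (hQℓ : ¬ ℓ ∣ Nat.card Q) (ρ : Q →* AddMonoid.End U) (σ : AddMonoid.End U)
    (ψ : MulAut Q) (hσ : σ ^ m = 1) (hψ : ψ ^ m = 1)
    (compat : ∀ x u, σ (ρ x u) = ρ (ψ x) (σ u)) (hnofix : ∀ u, σ u = u → u = 0)
    (Rad : Subgroup Q) [Rad.Normal] (hR : ∀ y ∈ Rad, ψ y ∈ Rad)
    (hRad : ∀ y : Q, y ∈ Rad ↔ ∀ (a : Q) (u : U), ρ ⁅a, y⁆ u = u)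
    (hcl2 : ∀ (x a y : Q) (u : U), ρ x (ρ ⁅a, y⁆ u) = ρ ⁅a, y⁆ (ρ x u))
    (hsemi : ∀ (a y : Q) (u : U), ρ ⁅a, y⁆ u = u → u ≠ 0 → ∀ u', ρ ⁅a, y⁆ u' = u')
    (hfix : ∀ e, e⁻¹ * ψ e ∈ Rad → ∀ u, ρ (ψ e) u = ρ e u) :
    ∃ d, Nat.card (Q ⧸ Rad) = d ^ 2 ∧
      Nat.card (Q ⧸ Rad) ≤
        (m - 1) ^ 2 * Nat.card {x : Q ⧸ Rad // qmap ψ Rad hR x = x} := by
  have hℓ : ℓ.Prime := Fact.out
  haveI : Module.Finite (ZMod ℓ) U := Module.Finite.of_finite
  let β : AddMonoid.End U →+* Module.End K (K ⊗[ZMod ℓ] U) :=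
    (Module.End.baseChangeHom (ZMod ℓ) K U).toRingHom.comp (toLinEnd ℓ U)
  haveI : Nontrivial (K ⊗[ZMod ℓ] U) := Module.nontrivial_of_finrank_pos (R := K) (by
    rw [Module.finrank_baseChange]; exact Module.finrank_pos)
  have hunit : ∀ f : AddMonoid.End U, (∀ u, f u = u → u = 0) → IsUnit (β f - 1) := by
    intro f hf
    have e : β f - 1 = Module.End.baseChangeHom (ZMod ℓ) K U (toLinEnd ℓ U f - 1) := by
      rw [map_sub, map_one]
      rfl
    rw [e]
    refine IsUnit.map (Module.End.baseChangeHom (ZMod ℓ) K U) ?_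
    rw [Module.End.isUnit_iff]
    exact Finite.injective_iff_bijective.1 ((injective_iff_map_eq_zero (toLinEnd ℓ U f - 1)).2
      fun u hu => hf u (sub_eq_zero.1 hu))
  have hne : ∀ w y : Q, ρ ⁅w, y⁆ ≠ 1 → IsUnit (β (ρ ⁅w, y⁆) - 1) := by
    intro w y h
    refine hunit _ fun u hu => ?_
    by_contra hu0
    exact h (AddMonoidHom.ext fun u' => hsemi w y u hu hu0 u')
  have S : Setup (β.toMonoidHom.comp ρ) (β σ) ψ m Rad :=
    { hm := hm
      hmK := fun h => hmℓ ((Nat.prime_dvd_prime_iff_eq hℓ hm).1 ((CharP.cast_eq_zero_iff K ℓ m).1 h)).symm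
      hQK := fun h => hQℓ ((CharP.cast_eq_zero_iff K ℓ _).1 h)
      hσ := by rw [← map_pow, hσ, map_one]
      hψ := hψ
      compat := fun x => by
        change β σ * β (ρ x) = β (ρ (ψ x)) * β σ
        rw [← map_mul, ← map_mul]
        exact congrArg β (AddMonoidHom.ext fun u => compat x u)
      noFix := hunit _ hnofix
      hRad := fun y => by
        rw [hRad]
        refine ⟨fun h w => ?_, fun h w u => ?_⟩
        · change β (ρ ⁅w, y⁆) = 1
          rw [show ρ ⁅w, y⁆ = 1 from AddMonoidHom.ext fun u => h w u, map_one]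
        · by_contra hc
          have := hne w y fun h' => hc (by rw [h']; rfl)
          rw [sub_eq_zero.2 (show β (ρ ⁅w, y⁆) = 1 from h w)] at this
          exact not_isUnit_zero this
      hcl2 := fun x w y => by
        change β (ρ x) * β (ρ ⁅w, y⁆) = β (ρ ⁅w, y⁆) * β (ρ x)
        rw [← RingHom.map_mul, ← RingHom.map_mul]
        exact congrArg β (show ρ x * ρ ⁅w, y⁆ = ρ ⁅w, y⁆ * ρ x from
          DFunLike.ext _ _ fun u => hcl2 x w y u)
      hsemi := fun w y h => hne w y fun h' => h (show β (ρ ⁅w, y⁆) = 1 by rw [h', map_one])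
      hfix := fun e he => congrArg β (AddMonoidHom.ext fun u => hfix e he u) }
  exact bound_field S hR

/-- The bound for a finite module of prime exponent. -/
theorem bound {Q : Type w} [Group Q] [Finite Q] {U : Type v} [AddCommGroup U] [Finite U]
    [Nontrivial U] {ℓ m : ℕ} (hℓ : ℓ.Prime) (hexp : ∀ u : U, ℓ • u = 0) (hm : m.Prime)
    (hmℓ : m ≠ ℓ) (hQℓ : ¬ ℓ ∣ Nat.card Q) (ρ : Q →* AddMonoid.End U) (σ : AddMonoid.End U)
    (ψ : MulAut Q) (hσ : σ ^ m = 1) (hψ : ψ ^ m = 1)
    (compat : ∀ x u, σ (ρ x u) = ρ (ψ x) (σ u)) (hnofix : ∀ u, σ u = u → u = 0)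
    (Rad : Subgroup Q) [Rad.Normal] (hR : ∀ y ∈ Rad, ψ y ∈ Rad)
    (hRad : ∀ y : Q, y ∈ Rad ↔ ∀ (a : Q) (u : U), ρ ⁅a, y⁆ u = u)
    (hcl2 : ∀ (x a y : Q) (u : U), ρ x (ρ ⁅a, y⁆ u) = ρ ⁅a, y⁆ (ρ x u))
    (hsemi : ∀ (a y : Q) (u : U), ρ ⁅a, y⁆ u = u → u ≠ 0 → ∀ u', ρ ⁅a, y⁆ u' = u')
    (hfix : ∀ e, e⁻¹ * ψ e ∈ Rad → ∀ u, ρ (ψ e) u = ρ e u) :
    ∃ d, Nat.card (Q ⧸ Rad) = d ^ 2 ∧
      Nat.card (Q ⧸ Rad) ≤
        (m - 1) ^ 2 * Nat.card {x : Q ⧸ Rad // qmap ψ Rad hR x = x} := by
  haveI := Fact.mk hℓ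
  letI : Module (ZMod ℓ) U := AddCommGroup.zmodModule hexp
  haveI : CharP (AlgebraicClosure (ZMod ℓ)) ℓ :=
    charP_of_injective_algebraMap (algebraMap (ZMod ℓ) (AlgebraicClosure (ZMod ℓ))).injective ℓ
  exact bound_aux (ℓ := ℓ) (U := U) (AlgebraicClosure (ZMod ℓ)) hm hmℓ hQℓ ρ σ ψ hσ hψ compat hnofix Rad hR hRad hcl2
    hsemi hfix

end Cfsg.Agent.PqFpf
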