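import Cfsg.Agent.Lib.FiniteGroup.OpFpf.Rep
import Cfsg.Agent.Lib.FiniteGroup.S3Fpf.Basic

/-!
Operators of coprime order: lifting fixed cosets of solvable stable normal subgroups, a variant of
the centralization lemma for operators without fixed vectors, and a norm argument.
-/

set_option autoImplicit false
set_option linter.style.haveILetI false
set_option linter.unusedSectionVars false

namespace Cfsg.Agent.PqFpf

open scoped commutatorElement BigOperators
open OpFpf

/-- An element fixed modulo a solvable stable normal subgroup of coprime order can be corrected to a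
fixed element. -/
theorem lift_solvable {A G : Type*} [Group A] [Group G] [Finite A] [Finite G] (φ : A →* MulAut G)
    (hcop : (Nat.card G).Coprime (Nat.card A)) :
    ∀ (N : Subgroup G) [N.Normal] [Group.IsSolvable N], Inv φ N → ∀ g : G,
      (∀ a, g⁻¹ * φ a g ∈ N) → ∃ n ∈ N, ∀ a, φ a (g * n) = g * n := by
  classical
  intro N
  induction hk : Nat.card N using Nat.strong_induction_on generalizing N with
  | _ k ih =>
    intro hNn hNs hNi g hg
    subst hk
    by_cases hbot : N = ⊥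
    · refine ⟨1, one_mem N, fun a => ?_⟩
      have h := hg a
      rw [hbot, Subgroup.mem_bot, inv_mul_eq_one] at h
      rw [mul_one]
      exact h.symm
    set M := ⁅N, N⁆ with hM
    have hMN : M ≤ N := Subgroup.commutator_le_left N N
    have hMi : Inv φ M := inv_commutator φ hNi hNi
    have hlt : Nat.card M < Nat.card N := by
      refine lt_of_le_of_ne (Nat.le_of_dvd Nat.card_pos (Subgroup.card_dvd_of_le hMN)) fun h => ?_
      haveI : Nontrivial N := (Subgroup.nontrivial_iff_ne_bot N).2 hbot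
      refine (Group.IsSolvable.commutator_lt_top_of_nontrivial N).ne
        (Subgroup.map_injective N.subtype_injective ?_)
      rw [commutator_def, Subgroup.map_commutator, ← MonoidHom.range_eq_map, Subgroup.range_subtype]
      exact Subgroup.eq_of_le_of_card_ge hMN h.ge
    haveI : Group.IsSolvable M := Group.isSolvable_of_isSolvable_injective (f := Subgroup.inclusion hMN)
      (Subgroup.inclusion_injective hMN)
    set π := QuotientGroup.mk' M with hπ
    have hcomm : ∀ x ∈ N.map π, ∀ y ∈ N.map π, x * y = y * x := by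
      rintro _ ⟨x, hx, rfl⟩ _ ⟨y, hy, rfl⟩
      rw [← commutatorElement_eq_one_iff_mul_comm, ← map_commutatorElement, hπ,
        QuotientGroup.mk'_apply, QuotientGroup.eq_one_iff]
      exact Subgroup.commutator_mem_commutator hx hy
    have hinv : Inv (quot φ M hMi) (N.map π) := by
      rintro a _ ⟨x, hx, rfl⟩
      exact ⟨φ a x, hNi a x hx, rfl⟩
    obtain ⟨n, ⟨x, hx, rfl⟩, hn⟩ := lift_abelian (quot φ M hMi)
      (hcop.coprime_dvd_left (Subgroup.card_quotient_dvd_card M)) hcomm hinv (g := π g)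
      fun a => ⟨_, hg a, by
        rw [map_mul, map_inv]
        rfl⟩
    obtain ⟨y, hy, hgy⟩ := ih _ hlt M rfl hMi (g * x) fun a => by
      have h : π (φ a (g * x)) = π (g * x) := by
        change quot φ M hMi a (π (g * x)) = π (g * x)
        rw [map_mul π]
        exact hn a
      exact QuotientGroup.eq.1 h.symm
    exact ⟨x * y, mul_mem hx (hMN hy), fun a => by rw [← mul_assoc]; exact hgy a⟩

section Rep

variable {A H W : Type*} [Group A] [Group H] [AddCommGroup W] {φ : A →* MulAut H} (R : Rep φ W)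

/-- An operator of prime order without fixed vectors on a stable set: a subgroup whose images
commute is centralized modulo the kernel. -/
theorem act_fix_comm {c : A} {r : ℕ} (hr : r.Prime) (hc : orderOf c = r) {E : Subgroup H}
    (hEi : ∀ x ∈ E, φ c x ∈ E)
    (hcop : (Nat.card E).Coprime (Nat.card W)) {U : AddSubgroup W}
    (hUc : ∀ v ∈ U, R.σ c v ∈ U) (hUE : ∀ x ∈ E, ∀ v ∈ U, R.ρ x v ∈ U)
    (hEc : ∀ x ∈ E, ∀ y ∈ E, ∀ v ∈ U, R.ρ x (R.ρ y v) = R.ρ y (R.ρ x v))
    (h0 : ∀ v ∈ U, R.σ c v = v → v = 0) {x : H} (hx : x ∈ E) {v : W} (hv : v ∈ U) :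
    R.ρ (x * (φ c x)⁻¹) v = v := by
  classical
  haveI := R.finH
  haveI := R.finA
  haveI := Fintype.ofFinite E
  have hEi' : ∀ i : ℕ, ∀ y ∈ E, φ (c ^ i) y ∈ E := by
    intro i
    induction i with
    | zero => intro y hy; rwa [pow_zero, act_one]
    | succ i ih => intro y hy; rw [pow_succ, act_mul]; exact ih _ (hEi y hy)
  have hUc' : ∀ i : ℕ, ∀ u ∈ U, R.σ (c ^ i) u ∈ U := by
    intro i
    induction i with
    | zero => intro u hu; rwa [pow_zero, R.σone]
    | succ i ih => intro u hu; rw [pow_succ, R.σmul]; exact ih _ (hUc u hu)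
  let ψ : ℕ → H → H := fun i e => e * (φ (c ^ i) e)⁻¹
  have hψE : ∀ i, ∀ e ∈ E, ψ i e ∈ E := fun i e he => mul_mem he (inv_mem (hEi' i e he))
  have hψ : ∀ i, ∀ e ∈ E, ∀ f ∈ E, ∀ u ∈ U,
      R.ρ (ψ i (e * f)) u = R.ρ (ψ i e) (R.ρ (ψ i f) u) := by
    intro i e he f hf u hu
    have e1 : ψ i (e * f) = e * (ψ i f * (φ (c ^ i) e)⁻¹) := by
      simp only [ψ, map_mul, mul_inv_rev]
      group
    have e2 : ψ i e = e * (φ (c ^ i) e)⁻¹ := rfl
    rw [e1, e2, R.ρmul e, R.ρmul (ψ i f), R.ρmul e,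
      hEc _ (hψE i f hf) _ (inv_mem (hEi' i e he)) u hu]
  -- every commutator with `c` is a commutator with a non-trivial power
  have himg : ∀ i, i ∈ Finset.range r → i ≠ 0 →
      ∃ e ∈ E, ∀ u ∈ U, R.ρ (ψ i e) u = R.ρ (ψ 1 x) u := by
    intro i hi hi0
    obtain ⟨k, hk⟩ := exists_pow_eq_self_of_coprime (x := c) (n := i) (by
      rw [hc]
      exact (hr.coprime_iff_not_dvd.2
        (Nat.not_dvd_of_pos_of_lt (Nat.pos_of_ne_zero hi0) (Finset.mem_range.1 hi))).symm)
    have h : ∀ m : ℕ, ∃ e ∈ E, ∀ u ∈ U, R.ρ (ψ i e) u = R.ρ (ψ (i * m) x) u := by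
      intro m
      induction m with
      | zero => exact ⟨1, one_mem E, fun u _ => by simp [ψ]⟩
      | succ m ih =>
        obtain ⟨e, he, hem⟩ := ih
        refine ⟨e * φ (c ^ (i * m)) x, mul_mem he (hEi' _ x hx), fun u hu => ?_⟩
        rw [hψ i e he _ (hEi' _ x hx) u hu, hem _ (hUE _ (hψE i _ (hEi' _ x hx)) u hu), ← R.ρmul]
        refine congrArg (fun z => R.ρ z u) ?_
        simp only [ψ]
        rw [← act_mul φ (c ^ i), ← pow_add, Nat.mul_succ, add_comm (i * m) i]
        group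
    obtain ⟨e, he, hem⟩ := h k
    exact ⟨e, he, fun u hu => by rw [hem u hu]; simp only [ψ, pow_mul, hk, pow_one]⟩
  -- the basic relation
  have hrel : ∀ e ∈ E, ∑ i ∈ Finset.range r, R.ρ (ψ i e) (R.σ (c ^ i) v) = 0 := by
    intro e he
    set u := R.ρ e⁻¹ v with hu
    have hw : R.σ c (∑ i ∈ Finset.range r, R.σ (c ^ i) u) =
        ∑ i ∈ Finset.range r, R.σ (c ^ i) u := by
      rw [map_sum]
      simp only [← R.σmul, ← pow_succ']
      have h1 := Finset.sum_range_succ' (fun j => R.σ (c ^ j) u) r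
      have h2 := Finset.sum_range_succ (fun j => R.σ (c ^ j) u) r
      rw [h2, pow_zero, ← hc, pow_orderOf_eq_one, hc] at h1
      exact (add_right_cancel h1).symm
    have h3 := congrArg (R.ρ e)
      (h0 _ (sum_mem fun i _ => hUc' i u (hUE _ (inv_mem he) v hv)) hw)
    rw [map_zero, map_sum] at h3
    rw [← h3]
    refine Finset.sum_congr rfl fun i _ => ?_
    rw [hu, R.hσ, ← R.ρmul]
    simp only [ψ, map_inv]
  have htot : ∑ i ∈ Finset.range r, ∑ e : E, R.ρ (ψ i (e : H)) (R.σ (c ^ i) v) = 0 := by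
    rw [Finset.sum_comm]
    exact Finset.sum_eq_zero fun e _ => hrel e e.2
  have hm : x * (φ c x)⁻¹ = ψ 1 x := by simp only [ψ, pow_one]
  have h4 := congrArg (fun w => R.ρ (ψ 1 x) w - w) htot
  simp only [map_zero, sub_zero, map_sum] at h4
  rw [← Finset.sum_sub_distrib, Finset.sum_eq_single 0] at h4
  · simp only [ψ, pow_zero, act_one, R.σone, mul_inv_cancel, R.ρone, Finset.sum_const,
      Finset.card_univ, ← Nat.card_eq_fintype_card, pow_one] at h4
    rw [← sub_eq_zero]
    exact R.eq_zero_of_nsmul hcop (by rw [nsmul_sub]; exact h4)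
  · intro i hi hi0
    obtain ⟨e₀, he₀, he⟩ := himg i hi hi0
    rw [sub_eq_zero]
    refine Fintype.sum_equiv (Equiv.mulLeft (⟨e₀, he₀⟩ : E)) _ _ fun e => ?_
    rw [← he _ (hUE _ (hψE i e e.2) _ (hUc' i v hv))]
    exact (hψ i e₀ he₀ e e.2 _ (hUc' i v hv)).symm
  · intro h
    exact absurd (Finset.mem_range.2 hr.pos) h

end Rep

section Norm

theorem prod_mul_inv_mem {M ι : Type*} [CommGroup M] (K : Subgroup M) (s : Finset ι) (g : ι → M)
    (z : M) (hg : ∀ i ∈ s, g i * z⁻¹ ∈ K) : (∏ i ∈ s, g i) * (z ^ s.card)⁻¹ ∈ K := by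
  rw [← Finset.prod_const, ← Finset.prod_inv_distrib, ← Finset.prod_mul_distrib]
  exact prod_mem hg

variable {A T M : Type*} [Group A] [Group T] [CommGroup M]

/-- The norm argument: an element fixed by `c` modulo `K` lies in `K`. -/
theorem mem_of_fixed_mod [Finite A] [Finite T] [Finite M] (α : A →* MulAut M) (ψ : A →* MulAut T)
    (τ : T →* MulAut M) (compat : ∀ a t x, α a (τ t x) = τ (ψ a t) (α a x))
    (hfpf : Fpf α) (hcopT : (Nat.card M).Coprime (Nat.card T))
    (hcopA : (Nat.card M).Coprime (Nat.card A))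
    (hnorm : ∀ (_ : Fintype T) (x : M), ∏ t : T, τ t x = 1) {c f : A}
    (hconj : c * f * c⁻¹ ∈ Subgroup.zpowers f)
    (hgen : ∀ g ∈ Subgroup.zpowers f, g ≠ 1 → ∀ S : Subgroup A, c ∈ S → g⁻¹ * c * g ∈ S → f ∈ S)
    (htop : ∀ S : Subgroup A, f ∈ S → c ∈ S → S = ⊤)
    (hT : ∀ t : T, ∃ u : T, t⁻¹ * (u⁻¹ * ψ f u) ∈ τ.ker)
    (K : Subgroup M) (hKt : ∀ t, ∀ x ∈ K, τ t x ∈ K) (hKc : ∀ x ∈ K, α c x ∈ K)
    (htriv : ∀ (t : T) (x : M), τ (t⁻¹ * ψ c t) x * x⁻¹ ∈ K)
    {x : M} (hx : α c x * x⁻¹ ∈ K) : x ∈ K := by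
  classical
  haveI := Fintype.ofFinite T
  haveI := Fintype.ofFinite A
  -- the elements fixing `z` modulo a stable subgroup
  let stab : ∀ (L : Subgroup M), (∀ t, ∀ y ∈ L, τ t y ∈ L) → M → Subgroup T := fun L hL z =>
    { carrier := {t | τ t z * z⁻¹ ∈ L}
      one_mem' := by simp
      mul_mem' := fun {s t} hs ht => by
        have h := L.mul_mem (hL s _ ht) hs
        change τ (s * t) z * z⁻¹ ∈ L
        convert h using 1
        rw [map_mul, MulAut.mul_apply, map_mul, map_inv (τ s), mul_assoc, inv_mul_cancel_left]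
      inv_mem' := fun {t} ht => by
        have h := hL t⁻¹ _ (inv_mem ht)
        change τ t⁻¹ z * z⁻¹ ∈ L
        convert h using 1
        rw [mul_inv_rev, inv_inv, map_mul, map_inv (τ t⁻¹), ← MulAut.mul_apply, ← map_mul,
          inv_mul_cancel, map_one, MulAut.one_apply, mul_comm] }
  set S₀ := Subgroup.closure {t | ∃ s, s⁻¹ * ψ c s = t} with hS₀
  have hS₀K : ∀ s ∈ S₀, ∀ z, τ s z * z⁻¹ ∈ K := fun s hs z =>
    (Subgroup.closure_le (K := stab K hKt z)).2 (by rintro _ ⟨t, rfl⟩; exact htriv t z) hs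
  have hS₀c : ∀ s ∈ S₀, ∃ s' ∈ S₀, ψ c s' = s := by
    intro s hs
    refine (Subgroup.closure_le (K := S₀.map (ψ c).toMonoidHom)).2 ?_ hs
    rintro _ ⟨t, rfl⟩
    refine ⟨(ψ c⁻¹ t)⁻¹ * t, Subgroup.subset_closure ⟨ψ c⁻¹ t, by rw [act_act_inv]⟩, ?_⟩
    change ψ c ((ψ c⁻¹ t)⁻¹ * t) = _
    rw [map_mul, map_inv (ψ c), act_act_inv]
  -- average over `S₀`
  set x₁ := ∏ s : S₀, τ (s : T) x with hx₁
  have h1 : x₁ * (x ^ Nat.card S₀)⁻¹ ∈ K := by
    rw [hx₁, Nat.card_eq_fintype_card]
    exact prod_mul_inv_mem K Finset.univ _ x fun s _ => hS₀K s s.2 x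
  have hfix₁ : ∀ s ∈ S₀, τ s x₁ = x₁ := by
    intro s hs
    rw [hx₁, map_prod]
    refine Fintype.prod_equiv (Equiv.mulLeft (⟨s, hs⟩ : S₀)) _ _ fun k => ?_
    rw [← MulAut.mul_apply, ← map_mul]
    rfl
  have hx₁c : α c x₁ * x₁⁻¹ ∈ K := by
    have e : α c x₁ * x₁⁻¹ = α c (x₁ * (x ^ Nat.card S₀)⁻¹) * (α c x * x⁻¹) ^ Nat.card S₀ *
        (x₁ * (x ^ Nat.card S₀)⁻¹)⁻¹ := by
      rw [map_mul, map_inv (α c), map_pow, mul_pow, inv_pow, mul_inv_rev, inv_inv]
      simp only [mul_comm, mul_left_comm, mul_assoc, mul_inv_cancel_left, inv_mul_cancel_left]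
    rw [e]
    exact mul_mem (mul_mem (hKc _ h1) (pow_mem hx _)) (inv_mem h1)
  have hiter : ∀ i : ℕ, α (c ^ i) x₁ * x₁⁻¹ ∈ K ∧ ∀ s ∈ S₀, τ s (α (c ^ i) x₁) = α (c ^ i) x₁ := by
    intro i
    induction i with
    | zero => exact ⟨by simp, fun s hs => by simp [hfix₁ s hs]⟩
    | succ i ih =>
      constructor
      · have h := mul_mem (hKc _ ih.1) hx₁c
        convert h using 1
        rw [pow_succ', map_mul, MulAut.mul_apply, map_mul, map_inv (α c), mul_assoc,
          inv_mul_cancel_left]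
      · intro s hs
        obtain ⟨s', hs', rfl⟩ := hS₀c s hs
        rw [pow_succ', map_mul, MulAut.mul_apply, ← compat, ih.2 s' hs']
  set n := orderOf c with hn
  set x₂ := ∏ i ∈ Finset.range n, α (c ^ i) x₁ with hx₂
  have h2 : x₂ * (x₁ ^ n)⁻¹ ∈ K := by
    have h := prod_mul_inv_mem K (Finset.range n) (fun i => α (c ^ i) x₁) x₁ fun i _ => (hiter i).1
    rwa [Finset.card_range] at h
  have hfix₂c : α c x₂ = x₂ := by
    rw [hx₂, map_prod, Finset.prod_congr rfl fun i _ => show α c (α (c ^ i) x₁) = α (c ^ (i + 1)) x₁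
      by rw [pow_succ', map_mul, MulAut.mul_apply]]
    have e1 := Finset.prod_range_succ' (fun j => α (c ^ j) x₁) n
    have e2 := Finset.prod_range_succ (fun j => α (c ^ j) x₁) n
    rw [e2, pow_zero, hn, pow_orderOf_eq_one] at e1
    exact (mul_right_cancel e1).symm
  have hfix₂ : ∀ s ∈ S₀, τ s x₂ = x₂ := fun s hs => by
    rw [hx₂, map_prod]
    exact Finset.prod_congr rfl fun i _ => (hiter i).2 s hs
  -- the translates of `x₂` lie in `K`
  have hkey : ∀ g ∈ Subgroup.zpowers f, g ≠ 1 → α g x₂ ∈ K := by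
    intro g hg hg1
    have hLt : ∀ t, ∀ y ∈ K.comap (α g).toMonoidHom, τ t y ∈ K.comap (α g).toMonoidHom :=
      fun t y hy => by
        change α g (τ t y) ∈ K
        rw [compat]
        exact hKt _ _ hy
    set L := K.comap (α g).toMonoidHom with hL
    set J := stab L hLt x₂ with hJ
    let SA : Subgroup A :=
      { carrier := {a | ∀ t, t⁻¹ * ψ a t ∈ J}
        one_mem' := fun t => by rw [act_one, inv_mul_cancel]; exact one_mem J
        mul_mem' := fun {a b} ha hb t => by
          have h := mul_mem (hb t) (ha (ψ b t))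
          rw [mul_assoc, mul_inv_cancel_left, ← act_mul] at h
          exact h
        inv_mem' := fun {a} ha t => by
          have h := inv_mem (ha (ψ a⁻¹ t))
          rw [act_act_inv, mul_inv_rev, inv_inv] at h
          exact h }
    have hker : ∀ t ∈ τ.ker, t ∈ J := fun t ht => by
      change τ t x₂ * x₂⁻¹ ∈ L
      rw [MonoidHom.mem_ker.1 ht, MulAut.one_apply, mul_inv_cancel]
      exact one_mem L
    have hf : f ∈ SA := by
      refine hgen g hg hg1 SA (fun t => ?_) fun t => ?_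
      · change τ (t⁻¹ * ψ c t) x₂ * x₂⁻¹ ∈ L
        rw [hfix₂ _ (Subgroup.subset_closure ⟨t, rfl⟩), mul_inv_cancel]
        exact one_mem L
      · change α g (τ (t⁻¹ * ψ (g⁻¹ * c * g) t) x₂ * x₂⁻¹) ∈ K
        rw [map_mul, map_inv (α g), compat, map_mul (ψ g), map_inv (ψ g),
          show ψ g (ψ (g⁻¹ * c * g) t) = ψ c (ψ g t) by
            rw [← act_mul, mul_assoc g⁻¹, mul_inv_cancel_left, act_mul]]
        exact htriv _ _
    have hJtop : ∀ t, t ∈ J := fun t => by
      obtain ⟨u, hu⟩ := hT t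
      have h := mul_mem (hf u) (inv_mem (hker _ hu))
      rwa [mul_inv_rev, inv_inv, mul_inv_cancel_left] at h
    have hpow : x₂ ^ Fintype.card T ∈ L := by
      have h : (∏ t : T, τ t x₂ * x₂⁻¹) ∈ L := prod_mem fun t _ => hJtop t
      rw [Finset.prod_mul_distrib, hnorm, one_mul, Finset.prod_const, Finset.card_univ,
        inv_pow] at h
      exact inv_mem_iff.1 h
    change x₂ ∈ L
    exact S3Fpf.mem_of_pow_mem (by rwa [← Nat.card_eq_fintype_card]) _ hpow
  -- the product of all translates is fixed by all operators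
  haveI := Fintype.ofFinite (Subgroup.zpowers f)
  set y := ∏ g : Subgroup.zpowers f, α (g : A) x₂ with hy
  have hyf : α f y = y := by
    rw [hy, map_prod]
    refine Fintype.prod_equiv (Equiv.mulLeft (⟨f, Subgroup.mem_zpowers f⟩ : Subgroup.zpowers f))
      _ _ fun k => ?_
    rw [← MulAut.mul_apply, ← map_mul]
    rfl
  have hyc : α c y = y := by
    rw [hy, map_prod]
    have hmem : ∀ g ∈ Subgroup.zpowers f, c * g * c⁻¹ ∈ Subgroup.zpowers f := by
      intro g hg
      obtain ⟨k, rfl⟩ := Subgroup.mem_zpowers_iff.1 hg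
      rw [← conj_zpow]
      exact Subgroup.zpow_mem _ hconj k
    refine Fintype.prod_bijective
      (fun g : Subgroup.zpowers f => (⟨c * g * c⁻¹, hmem g g.2⟩ : Subgroup.zpowers f))
      (Finite.injective_iff_bijective.1 fun g g' h => Subtype.ext ?_) _ _ fun g => ?_
    · have := congrArg Subtype.val h
      simpa using this
    · conv_rhs => rw [← hfix₂c]
      simp only [← MulAut.mul_apply, ← map_mul, inv_mul_cancel_right]
  let SF : Subgroup A :=
    { carrier := {a | α a y = y}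
      one_mem' := act_one α y
      mul_mem' := fun {a b} ha hb => by
        simp only [Set.mem_ofPred_eq] at ha hb ⊢
        rw [act_mul, hb, ha]
      inv_mem' := fun {a} ha => by
        simp only [Set.mem_ofPred_eq] at ha ⊢
        nth_rw 1 [← ha]
        rw [act_inv_act] }
  have hy1 : y = 1 := hfpf y fun a => (htop SF hyf hyc ▸ Subgroup.mem_top a : a ∈ SF)
  have hx₂K : x₂ ∈ K := by
    rw [hy, ← Finset.mul_prod_erase _ _ (Finset.mem_univ (1 : Subgroup.zpowers f)),
      Subgroup.coe_one, act_one, mul_eq_one_iff_eq_inv] at hy1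
    rw [hy1]
    exact inv_mem (prod_mem fun g hg => hkey g g.2 fun h =>
      (Finset.mem_erase.1 hg).1 (Subtype.ext h))
  have hx₁K : x₁ ^ n ∈ K := by
    have h := mul_mem (inv_mem h2) hx₂K
    simpa using h
  have hx₁K' : x₁ ∈ K :=
    S3Fpf.mem_of_pow_mem (hcopA.coprime_dvd_right (orderOf_dvd_natCard c)) _ hx₁K
  have h := mul_mem (inv_mem h1) hx₁K'
  exact S3Fpf.mem_of_pow_mem (hcopT.coprime_dvd_right (Subgroup.card_subgroup_dvd_card S₀)) _
    (by simpa using h)

end Norm

end Cfsg.Agent.PqFpf
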