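import Cfsg.Agent.Lib.FiniteGroup.PqFpf.PairLemmas
import Cfsg.Agent.Lib.FiniteGroup.PqFpf.General

/-!
The configuration for a non-abelian operator group of order `p m`: elementary properties.
-/

set_option autoImplicit false
set_option linter.style.haveILetI false
set_option linter.unusedSectionVars false

namespace Cfsg.Agent.PqFpf

open scoped commutatorElement BigOperators
open OpFpf

/-- Two groups of fixed cosets: an element fixed modulo a solvable stable normal subgroup by a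
single operator. -/
theorem lift_one {A G : Type*} [Group A] [Group G] [Finite A] [Finite G] (φ : A →* MulAut G)
    (hcop : (Nat.card G).Coprime (Nat.card A)) (N : Subgroup G) [N.Normal] [Group.IsSolvable N]
    (f : A) (hN : ∀ x ∈ N, φ f x ∈ N) (g : G) (hg : g⁻¹ * φ f g ∈ N) :
    ∃ n ∈ N, φ f (g * n) = g * n := by
  set Z := Subgroup.zpowers f
  have hNZ : ∀ a ∈ Z, ∀ x ∈ N, φ a x ∈ N := by
    intro a ha
    obtain ⟨k, rfl⟩ := (isOfFinOrder_of_finite f).mem_powers_iff_mem_zpowers.2 ha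
    change ∀ x ∈ N, φ (f ^ k) x ∈ N
    induction k with
    | zero => intro x hx; rwa [pow_zero, act_one]
    | succ k ih => intro x hx; rw [pow_succ, act_mul]; exact ih (Subgroup.npow_mem_zpowers f k) _ (hN x hx)
  have hgZ : ∀ a ∈ Z, g⁻¹ * φ a g ∈ N := by
    intro a ha
    obtain ⟨k, rfl⟩ := (isOfFinOrder_of_finite f).mem_powers_iff_mem_zpowers.2 ha
    change g⁻¹ * φ (f ^ k) g ∈ N
    induction k with
    | zero => rw [pow_zero, act_one, inv_mul_cancel]; exact one_mem N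
    | succ k ih =>
      have h1 := mul_mem (ih (Subgroup.npow_mem_zpowers f k))
        (hNZ (f ^ k) (Subgroup.npow_mem_zpowers f k) _ hg)
      rwa [map_mul, map_inv (φ (f ^ k)), mul_assoc g⁻¹, mul_inv_cancel_left, ← act_mul, ← pow_succ]
        at h1
  obtain ⟨n, hn, hgn⟩ := lift_solvable (φ.comp Z.subtype)
    (hcop.coprime_dvd_right (Subgroup.card_subgroup_dvd_card Z)) N (fun a x hx => hNZ a a.2 x hx) g
    fun a => hgZ a a.2
  exact ⟨n, hn, hgn ⟨f, Subgroup.mem_zpowers f⟩⟩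

/-- The fixed subgroup of an operator. -/
def fixedSub {A H : Type*} [Group A] [Group H] (ψ : A →* MulAut H) (c : A) : Subgroup H :=
  MonoidHom.eqLocus (ψ c).toMonoidHom (MonoidHom.id H)

theorem mem_fixedSub {A H : Type*} [Group A] [Group H] {ψ : A →* MulAut H} {c : A} {x : H} :
    x ∈ fixedSub ψ c ↔ ψ c x = x := Iff.rfl

variable {A H : Type*} [Group A] [Group H] {W : Type*} [AddCommGroup W] {ψ : A →* MulAut H}

/-- The configuration. -/
structure IsPq (R : Rep ψ W) (p m s t ℓ : ℕ) (f : A) (Q T : Subgroup H) : Prop where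
  hp : p.Prime
  hm : m.Prime
  hℓ : ℓ.Prime
  expW : ∀ v : W, ℓ • v = 0
  ordf : orderOf f = p
  normf : ∀ a, a * f * a⁻¹ ∈ Subgroup.zpowers f
  outside : ∀ a ∉ Subgroup.zpowers f, orderOf a = m ∧ a * f ≠ f * a
  exists_out : ∃ a, a ∉ Subgroup.zpowers f
  gen : ∀ S : Subgroup A, ∀ a ∈ S, ∀ b ∈ S, a ≠ 1 → b ∉ Subgroup.zpowers a → S = ⊤
  pair : Pair ψ (Nat.card W) s t Q T
  fpfH : Fpf ψ
  centr : ∀ h v, ψ f h = h → (orderOf h).Coprime (Nat.card W) → R.σ f v = v → R.ρ h v = v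
  trivF : (∀ h, ψ f h = h) → ∀ x ∈ T, ∀ u ∈ Q, x * u = u * x

namespace IsPq

variable {R : Rep ψ W} {p m s t ℓ : ℕ} {f : A} {Q T : Subgroup H} (F : IsPq R p m s t ℓ f Q T)

include F

theorem f_ne : f ≠ 1 := fun h => by
  have := F.ordf
  rw [h, orderOf_one] at this
  exact F.hp.one_lt.ne this

theorem prime_order {c : A} (hc : c ≠ 1) : (orderOf c).Prime := by
  haveI := R.finA
  haveI := Fact.mk F.hp
  by_cases h : c ∈ Subgroup.zpowers f
  · have h1 : orderOf c ∣ p := by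
      rw [← F.ordf, ← Nat.card_zpowers f]
      exact Subgroup.orderOf_dvd_natCard _ h
    rw [((Nat.dvd_prime F.hp).1 h1).resolve_left fun h2 => hc (orderOf_eq_one_iff.1 h2)]
    exact F.hp
  · rw [(F.outside c h).1]
    exact F.hm

theorem zp_symm {c d : A} (hc : c ≠ 1) (h : c ∈ Subgroup.zpowers d) :
    d ∈ Subgroup.zpowers c := by
  haveI := R.finA
  by_cases hd : d = 1
  · rw [hd]; exact one_mem _
  have h1 : orderOf c ∣ orderOf d := by
    rw [← Nat.card_zpowers d]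
    exact Subgroup.orderOf_dvd_natCard _ h
  have he : Subgroup.zpowers c = Subgroup.zpowers d :=
    Subgroup.eq_of_le_of_card_ge (Subgroup.zpowers_le.2 h) (by
      rw [Nat.card_zpowers, Nat.card_zpowers,
        ((Nat.dvd_prime (F.prime_order hd)).1 h1).resolve_left fun h2 =>
          hc (orderOf_eq_one_iff.1 h2)])
  rw [he]
  exact Subgroup.mem_zpowers d

theorem coprime_order (c : A) : (Nat.card H).Coprime (orderOf c) :=
  R.copAH.coprime_dvd_right (orderOf_dvd_natCard c)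

theorem out_ne {c : A} (hc : c ∉ Subgroup.zpowers f) : c ≠ 1 := fun h => hc (h ▸ one_mem _)

theorem f_notMem {c : A} (hc : c ∉ Subgroup.zpowers f) : f ∉ Subgroup.zpowers c := fun h => by
  obtain ⟨k, hk⟩ := Subgroup.mem_zpowers_iff.1 h
  exact (F.outside c hc).2 (by rw [← hk]; exact ((Commute.refl c).zpow_right k).eq)

/-- A subgroup containing `f` and an outside element is everything. -/
theorem top_of {S : Subgroup A} {c : A} (hc : c ∉ Subgroup.zpowers f) (hfS : f ∈ S) (hcS : c ∈ S) :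
    S = ⊤ := F.gen S f hfS c hcS F.f_ne hc

/-- Elements fixed by two independent operators are trivial. -/
theorem eq_one_of_fixed_two {a b : A} (ha : a ≠ 1) (hb : b ∉ Subgroup.zpowers a) {x : H}
    (hax : ψ a x = x) (hbx : ψ b x = x) : x = 1 := by
  let S : Subgroup A :=
    { carrier := {c | ψ c x = x}
      one_mem' := act_one ψ x
      mul_mem' := fun {c d} hc hd => by
        simp only [Set.mem_ofPred_eq] at hc hd ⊢
        rw [act_mul, hd, hc]
      inv_mem' := fun {c} hc => by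
        simp only [Set.mem_ofPred_eq] at hc ⊢
        nth_rw 1 [← hc]
        rw [act_inv_act] }
  exact F.fpfH x fun c => (F.gen S a hax b hbx ha hb ▸ Subgroup.mem_top c : c ∈ S)

theorem fixed_of_zpowers {c d : A} (hd : d ∈ Subgroup.zpowers c) {x : H}
    (hx : ψ c x = x) : ψ d x = x := by
  obtain ⟨k, rfl⟩ := Subgroup.mem_zpowers_iff.1 hd
  have : ψ c ∈ MulAction.stabilizer (MulAut H) x := hx
  rw [map_zpow]
  exact Subgroup.zpow_mem _ this k

theorem inv_fixed : Inv ψ (fixedSub ψ f) := fun a x hx => by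
  rw [mem_fixedSub] at hx ⊢
  have h := F.normf a⁻¹
  rw [inv_inv] at h
  calc ψ f (ψ a x) = ψ a (ψ (a⁻¹ * f * a) x) := by
        rw [← act_mul, ← act_mul, mul_assoc a⁻¹, mul_inv_cancel_left]
    _ = ψ a x := by rw [F.fixed_of_zpowers h hx]

/-- The part of `T` centralizing `Q`. -/
def T₀ (_F : IsPq R p m s t ℓ f Q T) : Subgroup H := T ⊓ Subgroup.centralizer (Q : Set H)

theorem mem_T₀ {x : H} : x ∈ F.T₀ ↔ x ∈ T ∧ ∀ u ∈ Q, x * u = u * x :=
  ⟨fun h => ⟨h.1, fun u hu => (Subgroup.mem_centralizer_iff.1 h.2 u hu).symm⟩,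
    fun h => ⟨h.1, Subgroup.mem_centralizer_iff.2 fun u hu => (h.2 u hu).symm⟩⟩

theorem T₀_le : F.T₀ ≤ T := inf_le_left

theorem inv_T₀ : Inv ψ F.T₀ := inv_inf ψ F.pair.Ti (inv_centralizer ψ F.pair.Qi)

theorem conj_T₀ {x y : H} (hx : x ∈ T) (hy : y ∈ F.T₀) : x * y * x⁻¹ ∈ F.T₀ := by
  refine F.mem_T₀.2 ⟨mul_mem (mul_mem hx hy.1) (inv_mem hx), fun u hu => ?_⟩
  have h := (F.mem_T₀.1 hy).2 (x⁻¹ * u * x) (by simpa using F.pair.Qn.conj_mem u hu x⁻¹)
  calc x * y * x⁻¹ * u = x * (y * (x⁻¹ * u * x)) * x⁻¹ := by group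
    _ = u * (x * y * x⁻¹) := by rw [h]; group

theorem commutator_T₀ {x y : H} (hx : x ∈ T) (hy : y ∈ T) : x * y * x⁻¹ * y⁻¹ ∈ F.T₀ := by
  haveI := R.finH
  haveI := Fact.mk F.pair.hr
  haveI : Group.IsNilpotent T := F.pair.Tp.isNilpotent
  have hne : ⁅T, T⁆ ≠ T := fun h => by
    rcases subsingleton_or_nontrivial T with hs | hs
    · refine F.pair.ncom fun a ha u _ => ?_
      have : a = 1 := congrArg Subtype.val (Subsingleton.elim (⟨a, ha⟩ : T) 1)
      rw [this, one_mul, mul_one]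
    · refine (Group.IsSolvable.commutator_lt_top_of_nontrivial T).ne
        (Subgroup.map_injective T.subtype_injective ?_)
      rw [commutator_def, Subgroup.map_commutator, ← MonoidHom.range_eq_map,
        Subgroup.range_subtype, h]
  have hle : ⁅T, T⁆ ≤ T := Subgroup.commutator_le_self T
  have hmem := Subgroup.commutator_mem_commutator hx hy
  rw [commutatorElement_def] at hmem
  exact F.mem_T₀.2 ⟨hle hmem, F.pair.minT ⁅T, T⁆ hle (inv_commutator ψ F.pair.Ti F.pair.Ti) hne _ hmem⟩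

/-- Either `f` centralizes `T` or its fixed points centralize `Q`. -/
theorem cases_T : (∀ x ∈ T, ψ f x = x) ∨ ∀ x ∈ T, ψ f x = x → x ∈ F.T₀ := by
  by_cases h : T ⊓ fixedSub ψ f = T
  · exact Or.inl fun x hx => mem_fixedSub.1 (h.ge hx).2
  · exact Or.inr fun x hx hfx => F.mem_T₀.2 ⟨hx, F.pair.minT _ inf_le_left
      (inv_inf ψ F.pair.Ti F.inv_fixed) h x ⟨hx, hfx⟩⟩

/-- If `f` centralizes `T`, other operators give every element of `T` as a commutator. -/
theorem exists_commutator (hI : ∀ x ∈ T, ψ f x = x) {c : A} (hc : c ∉ Subgroup.zpowers f) {y : H}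
    (hy : y ∈ T) : ∃ x ∈ T, x⁻¹ * ψ c x = y := by
  haveI := R.finH
  let g : T → T := fun x => ⟨(x : H)⁻¹ * ψ c x, mul_mem (inv_mem x.2) (F.pair.Ti c x x.2)⟩
  have hg : Function.Injective g := by
    intro a b h
    have h' : (a : H)⁻¹ * ψ c a = (b : H)⁻¹ * ψ c b := congrArg Subtype.val h
    have h1 : ψ c ((b : H) * (a : H)⁻¹) = (b : H) * (a : H)⁻¹ := by
      rw [map_mul, map_inv (ψ c)]
      calc ψ c (b : H) * (ψ c (a : H))⁻¹
          = (b : H) * ((b : H)⁻¹ * ψ c b) * ((a : H)⁻¹ * ψ c a)⁻¹ * (a : H)⁻¹ := by group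
        _ = _ := by rw [h', mul_inv_cancel_right]
    exact Subtype.ext (mul_inv_eq_one.1
      (F.eq_one_of_fixed_two F.f_ne hc (hI _ (mul_mem b.2 (inv_mem a.2))) h1)).symm
  obtain ⟨x, hx⟩ := Finite.injective_iff_surjective.1 hg ⟨y, hy⟩
  exact ⟨x, x.2, congrArg Subtype.val hx⟩

/-- A subgroup of `T` over `T₀` containing its `f`-fixed cosets. -/
theorem mem_of_fixed_coset (hII : ∀ x ∈ T, ψ f x = x → x ∈ F.T₀) {N : Subgroup H} (hN0 : F.T₀ ≤ N)
    (hNT : N ≤ T) (hNf : ∀ x ∈ N, ψ f x ∈ N) {x : H} (hx : x ∈ T) (hfx : x⁻¹ * ψ f x ∈ N) :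
    x ∈ N := by
  haveI := R.finH
  haveI := R.finA
  haveI := Fact.mk F.pair.hr
  haveI : Group.IsNilpotent T := F.pair.Tp.isNilpotent
  haveI : (N.subgroupOf T).Normal := ⟨fun y hy z => by
    have h := hN0 (F.commutator_T₀ z.2 (hNT hy))
    have h' := mul_mem h hy
    rwa [inv_mul_cancel_right] at h'⟩
  obtain ⟨n, hn, hfn⟩ := lift_one (restrict ψ T F.pair.Ti)
    (R.copAH.coprime_dvd_left (Subgroup.card_subgroup_dvd_card T)) (N.subgroupOf T) f
    (fun y hy => hNf (y : H) hy) ⟨x, hx⟩ hfx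
  have h1 : x * (n : H) ∈ N :=
    hN0 (hII _ (mul_mem hx n.2) (congrArg Subtype.val hfn))
  simpa using mul_mem h1 (inv_mem (show (n : H) ∈ N from hn))

/-- If the fixed points of `f` in `T` centralize `Q`, every element is a commutator with `f`. -/
theorem exists_commutator_f (hII : ∀ x ∈ T, ψ f x = x → x ∈ F.T₀) {y : H} (hy : y ∈ T) :
    ∃ x ∈ T, y⁻¹ * (x⁻¹ * ψ f x) ∈ F.T₀ := by
  haveI := R.finH
  set N := F.T₀.subgroupOf T with hN
  haveI : N.Normal := ⟨fun z hz w => F.conj_T₀ w.2 hz⟩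
  haveI : Finite (T ⧸ N) := Finite.of_surjective _ QuotientGroup.mk_surjective
  set θ := QuotientGroup.map N N (restrict ψ T F.pair.Ti f).toMonoidHom
    (fun z hz => F.inv_T₀ f z hz) with hθ
  let g : T ⧸ N → T ⧸ N := fun z => z⁻¹ * θ z
  have hg : Function.Injective g := by
    intro a b h
    change a⁻¹ * θ a = b⁻¹ * θ b at h
    have h1 : θ (b * a⁻¹) = b * a⁻¹ := by
      rw [map_mul, map_inv]
      calc θ b * (θ a)⁻¹ = b * (b⁻¹ * θ b) * (a⁻¹ * θ a)⁻¹ * a⁻¹ := by group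
        _ = b * a⁻¹ := by rw [h, mul_inv_cancel_right]
    obtain ⟨z, hz⟩ := QuotientGroup.mk_surjective (b * a⁻¹)
    rw [← hz] at h1
    replace h1 : ((restrict ψ T F.pair.Ti f z : T) : T ⧸ N) = (z : T ⧸ N) := h1
    have h4 := QuotientGroup.eq.1 h1.symm
    have h2 : (z : H) ∈ F.T₀ := F.mem_of_fixed_coset hII le_rfl F.T₀_le
      (fun w hw => F.inv_T₀ f w hw) z.2 h4
    have h3 : b * a⁻¹ = 1 := hz ▸ (QuotientGroup.eq_one_iff z).2 h2
    exact (mul_inv_eq_one.1 h3).symm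
  obtain ⟨z, hz⟩ := Finite.injective_iff_surjective.1 hg ((⟨y, hy⟩ : T) : T ⧸ N)
  obtain ⟨x, rfl⟩ := QuotientGroup.mk_surjective z
  refine ⟨x, x.2, ?_⟩
  change ((x⁻¹ * restrict ψ T F.pair.Ti f x : T) : T ⧸ N) = _ at hz
  have h4 := QuotientGroup.eq.1 hz.symm
  exact h4

/-- If `f` centralizes `T`, its fixed points in `Q` lie in the derived subgroup. -/
theorem fixed_mem_commutator (hI : ∀ x ∈ T, ψ f x = x) {x : H} (hx : x ∈ Q) (hfx : ψ f x = x) :
    x ∈ ⁅Q, Q⁆ := by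
  haveI := R.finH
  have hne : Q ⊓ fixedSub ψ f ≠ Q := by
    intro h
    refine F.pair.ncom (F.trivF fun h' => ?_)
    obtain ⟨u, hu, y, hy, rfl⟩ := F.pair.top h'
    rw [map_mul, hI y hy, mem_fixedSub.1 (h.ge hu).2]
  refine F.pair.mem_commutator_of_centralized hx fun y hy =>
    F.pair.minQ (Q ⊓ fixedSub ψ f) inf_le_left (inv_inf ψ F.pair.Qi F.inv_fixed)
      (fun z hz u hu => ⟨F.pair.Qn.conj_mem u hu.1 z, ?_⟩) hne y hy x ⟨hx, hfx⟩
  change ψ f (z * u * z⁻¹) = z * u * z⁻¹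
  rw [map_mul, map_mul, map_inv (ψ f), hI z hz, mem_fixedSub.1 hu.2]

section Components

variable {N : Subgroup H} (hNn : N.Normal) (hNi : Inv ψ N)
  (hNc : ∀ x ∈ N, ∀ y ∈ N, x * y = y * x)

include hNn hNi hNc

theorem stab_cases {B : Subgroup H} (hB : R.IsMax N B) :
    opStab ψ B = ⊤ ∨ ∃ c, c ≠ 1 ∧ c ∈ opStab ψ B ∧ (c = f ∨ c ∉ Subgroup.zpowers f) ∧
      (∀ d ∈ opStab ψ B, d ∈ Subgroup.zpowers c) ∧
      ∀ v ∈ R.fix B, R.σ c v = v → v = 0 := by
  obtain ⟨⟨c, hc⟩, hc1⟩ :=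
    Subgroup.ne_bot_iff_exists_ne_one.1 (R.opStab_ne_bot hNn hNi hNc hB)
  have hc1' : c ≠ 1 := fun h => hc1 (Subtype.ext h)
  by_cases hall : ∀ d ∈ opStab ψ B, d ∈ Subgroup.zpowers c
  · refine Or.inr ?_
    by_cases hcf : c ∈ Subgroup.zpowers f
    · have hfc := F.zp_symm hc1' hcf
      have hall' : ∀ d ∈ opStab ψ B, d ∈ Subgroup.zpowers f := fun d hd =>
        Subgroup.zpowers_le.2 hcf (hall d hd)
      exact ⟨f, F.f_ne, Subgroup.zpowers_le.2 hc hfc, Or.inl rfl, hall', fun v hv hfv =>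
        R.no_fixed hNn hNi hNc hB hv fun d hd => R.σ_fix_of_mem_zpowers (hall' d hd) hfv⟩
    · exact ⟨c, hc1', hc, Or.inr hcf, hall, fun v hv hcv =>
        R.no_fixed hNn hNi hNc hB hv fun d hd => R.σ_fix_of_mem_zpowers (hall d hd) hcv⟩
  · push Not at hall
    obtain ⟨d, hd, hd'⟩ := hall
    exact Or.inl (F.gen _ c hc d hd hc1' hd')

/-- A stabilizing operator without fixed vectors centralizes abelian stable subgroups modulo the
kernel. -/
theorem triv_of_proper {B : Subgroup H} (hB : R.IsMax N B) {c : A} (hc1 : c ≠ 1)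
    (hc : c ∈ opStab ψ B) (h0 : ∀ v ∈ R.fix B, R.σ c v = v → v = 0) {n : H} (hn : n ∈ N) :
    n * (ψ c n)⁻¹ ∈ B :=
  R.mem_of_fix_all hB (mul_mem hn (inv_mem (hNi c n hn))) fun _ hu =>
    R.act_fix (F.prime_order hc1) rfl hNc (fun x hx => hNi c x hx) (R.coprime_abelian hNn hNi hNc)
      (fun v hv => mem_opStab.1 hc ▸ R.fix_act c hv)
      (fun x hx v hv => R.fix_stable hNc hB.1 hx hv) h0 hn hu

/-- The elements centralizing `N` modulo a component. -/
def trivSub (_F : IsPq R p m s t ℓ f Q T) {B : Subgroup H} (_hB : R.IsMax N B) (_hNn : N.Normal)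
    (_hNc : ∀ x ∈ N, ∀ y ∈ N, x * y = y * x) (hNi : Inv ψ N) : Subgroup A where
  carrier := {a | a ∈ opStab ψ B ∧ ∀ n ∈ N, n * (ψ a n)⁻¹ ∈ B}
  one_mem' := ⟨one_mem _, fun n _ => by rw [act_one, mul_inv_cancel]; exact one_mem B⟩
  mul_mem' := fun {a b} ha hb => ⟨mul_mem ha.1 hb.1, fun n hn => by
    have h := mul_mem (hb.2 n hn) (ha.2 _ (hNi b n hn))
    rwa [mul_assoc, inv_mul_cancel_left, ← act_mul] at h⟩
  inv_mem' := fun {a} ha => ⟨inv_mem ha.1, fun n hn => by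
    have h := inv_mem (ha.2 _ (hNi a⁻¹ n hn))
    rwa [mul_inv_rev, inv_inv, act_act_inv] at h⟩

/-- If `f` stabilizes a component it centralizes `N` modulo it. -/
theorem f_triv {B : Subgroup H} (hB : R.IsMax N B) (hf : f ∈ opStab ψ B) :
    ∀ n ∈ N, n * (ψ f n)⁻¹ ∈ B := by
  rcases F.stab_cases hNn hNi hNc hB with htop | ⟨c, hc1, hcB, -, hsub, h0⟩
  swap
  · have hfc : f ∈ Subgroup.zpowers c := hsub f hf
    refine fun n hn => F.triv_of_proper hNn hNi hNc hB F.f_ne hf (fun v hv hfv => ?_) hn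
    exact h0 v hv (R.σ_fix_of_mem_zpowers (F.zp_symm F.f_ne hfc) hfv)
  haveI := R.finH
  haveI := R.finA
  obtain ⟨g, hg, hgen⟩ := R.exists_generator hNc hB.1 (U := R.fix B)
    (fun z hz u hu => R.fix_stable hNc hB.1 hz hu) le_rfl hB.2.1
    (R.coprime_abelian hNn hNi hNc) (fun z hz hzB u hu hzu => R.eq_zero_of_fixed hB hz hzB hu hzu)
  have hst : ∀ a x, x ∈ B → ψ a x ∈ B := fun a x hx =>
    mem_of_mp_eq (mem_opStab.1 (htop ▸ Subgroup.mem_top a)) hx
  -- the two composites agree on `N` modulo `B`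
  have hcomm : ∀ a b : A, ∀ n ∈ N, ψ (a * b) n * (ψ (b * a) n)⁻¹ ∈ B := by
    intro a b n hn
    obtain ⟨i, hi⟩ := hgen _ (hNi a g hg)
    obtain ⟨j, hj⟩ := hgen _ (hNi b g hg)
    obtain ⟨k, hk⟩ := hgen n hn
    haveI : (B.subgroupOf N).Normal := ⟨fun x hx y => by
      change (y : H) * x * (y : H)⁻¹ ∈ B
      rw [hNc y y.2 x (hB.1 hx), mul_inv_cancel_right]
      exact hx⟩
    set π := QuotientGroup.mk' (B.subgroupOf N) with hπ
    let θ : A → N ⧸ B.subgroupOf N →* N ⧸ B.subgroupOf N := fun a =>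
      QuotientGroup.map _ _ (restrict ψ N hNi a).toMonoidHom fun x hx => hst a (x : H) hx
    have hpow : ∀ (x : H) (hx : x ∈ N) (e : ℕ), x * (g ^ e)⁻¹ ∈ B → π ⟨x, hx⟩ = π ⟨g, hg⟩ ^ e := by
      intro x hx e h
      rw [← map_pow, ← mul_inv_eq_one, ← map_inv, ← map_mul, hπ, QuotientGroup.mk'_apply,
        QuotientGroup.eq_one_iff]
      exact h
    have hθ : ∀ a (x : H) (hx : x ∈ N), θ a (π ⟨x, hx⟩) = π ⟨ψ a x, hNi a x hx⟩ :=
      fun _ _ _ => rfl
    have hθ2 : ∀ a b (x : H) (hx : x ∈ N),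
        π ⟨ψ (a * b) x, hNi _ x hx⟩ = θ a (θ b (π ⟨x, hx⟩)) := by
      intro a b x hx
      rw [hθ, hθ]
      exact congrArg π (Subtype.ext (act_mul ψ a b x))
    have e1 : θ a (π ⟨g, hg⟩) = π ⟨g, hg⟩ ^ i := (hθ a g hg).trans (hpow _ _ i hi)
    have e2 : θ b (π ⟨g, hg⟩) = π ⟨g, hg⟩ ^ j := (hθ b g hg).trans (hpow _ _ j hj)
    have h : π ⟨ψ (a * b) n, hNi _ n hn⟩ = π ⟨ψ (b * a) n, hNi _ n hn⟩ := by
      rw [hθ2 a b n hn, hθ2 b a n hn, hpow n hn k hk]
      simp only [map_pow, e1, e2]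
      rw [← pow_mul, ← pow_mul, ← pow_mul, ← pow_mul]
      congr 1
      ring
    rw [← mul_inv_eq_one, ← map_inv, ← map_mul, hπ, QuotientGroup.mk'_apply,
      QuotientGroup.eq_one_iff] at h
    exact h
  obtain ⟨c, hc⟩ := F.exists_out
  set z := c * f * c⁻¹ * f⁻¹ with hz
  have hzf : z ∈ Subgroup.zpowers f :=
    mul_mem (F.normf c) (inv_mem (Subgroup.mem_zpowers f))
  have hz1 : z ≠ 1 := fun h => (F.outside c hc).2 (by
    rw [hz, mul_inv_eq_one, mul_inv_eq_iff_eq_mul] at h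
    exact h)
  have hzmem : z ∈ F.trivSub hB hNn hNc hNi := by
    refine ⟨htop ▸ Subgroup.mem_top z, fun n hn => ?_⟩
    have h := hcomm c f _ (hNi (c⁻¹ * f⁻¹) n hn)
    rw [← act_mul, ← act_mul, show f * c * (c⁻¹ * f⁻¹) = 1 by group, act_one,
      show c * f * (c⁻¹ * f⁻¹) = z by rw [hz]; group] at h
    have h' := inv_mem h
    rwa [mul_inv_rev, inv_inv] at h'
  exact (Subgroup.zpowers_le.2 hzmem (F.zp_symm hz1 hzf) : f ∈ F.trivSub hB hNn hNc hNi).2

end Components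

end IsPq

end Cfsg.Agent.PqFpf
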