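import Cfsg.Agent.Lib.FiniteGroup.PqFpf.Nonabelian

/-!
A solvable group with a fixed-point-free non-abelian operator group of order `p m` of coprime order
has Fitting height at most two.
-/

set_option autoImplicit false
set_option linter.style.haveILetI false

namespace Cfsg.Agent.PqFpf

open scoped commutatorElement
open OpFpf

universe u v

/-- The properties of a non-abelian group of order `p m` used here. -/
structure IsPqGroup {A : Type v} [Group A] (p m : ℕ) (f : A) : Prop where
  hp : p.Prime
  hm : m.Prime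
  ordf : orderOf f = p
  normf : ∀ a, a * f * a⁻¹ ∈ Subgroup.zpowers f
  outside : ∀ a ∉ Subgroup.zpowers f, orderOf a = m ∧ a * f ≠ f * a
  exists_out : ∃ a, a ∉ Subgroup.zpowers f
  gen : ∀ S : Subgroup A, ∀ a ∈ S, ∀ b ∈ S, a ≠ 1 → b ∉ Subgroup.zpowers a → S = ⊤

theorem exists_isPqGroup {A : Type v} [Group A] [Finite A] {p m : ℕ} (hp : p.Prime) (hm : m.Prime)
    (hlt : m < p) (hA : Nat.card A = p * m) (hAna : ¬ IsMulCommutative A) :
    ∃ f : A, IsPqGroup p m f := by
  haveI := Fact.mk hp
  obtain ⟨f, hf⟩ := exists_prime_orderOf_dvd_card' (G := A) p (hA ▸ dvd_mul_right p m)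
  have hcardP : Nat.card (Subgroup.zpowers f) = p := by rw [Nat.card_zpowers, hf]
  have hidx : (Subgroup.zpowers f).index = m := by
    have h := (Subgroup.zpowers f).card_mul_index
    rw [hcardP, hA] at h
    exact Nat.eq_of_mul_eq_mul_left hp.pos h
  haveI hPn : (Subgroup.zpowers f).Normal := by
    refine Subgroup.normal_of_index_eq_minFac_card ?_
    rw [hidx, hA]
    refine ((Nat.minFac_le_of_dvd hm.two_le (dvd_mul_left m p)).antisymm ?_).symm
    have h1 : p * m ≠ 1 := fun h => hp.one_lt.ne' (Nat.eq_one_of_mul_eq_one_right h)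
    rcases (Nat.Prime.dvd_mul (Nat.minFac_prime h1)).1 (Nat.minFac_dvd (p * m)) with h | h
    · rw [(Nat.prime_dvd_prime_iff_eq (Nat.minFac_prime h1) hp).1 h]
      exact hlt.le
    · exact (Nat.prime_dvd_prime_iff_eq (Nat.minFac_prime h1) hm).1 h |>.ge
  have hnc : ∀ a : A, orderOf a ≠ p * m := fun a ha => hAna (by
    haveI : IsCyclic A := isCyclic_of_orderOf_eq_card a (ha.trans hA.symm)
    exact inferInstance)
  have hout : ∀ a ∉ Subgroup.zpowers f, orderOf a = m ∧ a * f ≠ f * a := by
    intro a ha
    obtain ⟨x, y, hx, hy, hxy⟩ := dvd_mul.1 (hA ▸ orderOf_dvd_natCard a)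
    have hord : orderOf a = m := by
      rcases (Nat.dvd_prime hp).1 hx with rfl | rfl
      · rcases (Nat.dvd_prime hm).1 hy with rfl | rfl
        · exact absurd (orderOf_eq_one_iff.1 (hxy.trans (one_mul 1)))
            fun h => ha (h ▸ one_mem _)
        · rw [hxy, one_mul]
      · rcases (Nat.dvd_prime hm).1 hy with rfl | rfl
        · exfalso
          refine ha ((QuotientGroup.eq_one_iff a).1 (orderOf_eq_one_iff.1 ?_))
          refine Nat.eq_one_of_dvd_coprimes ((Nat.coprime_primes hp hm).2 hlt.ne')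
            ?_ (hidx ▸ orderOf_dvd_natCard (a : A ⧸ Subgroup.zpowers f))
          rw [← mul_one x, ← hxy]
          exact orderOf_map_dvd (QuotientGroup.mk' (Subgroup.zpowers f)) a
        · exact absurd hxy (hnc a)
    refine ⟨hord, fun hc => hnc (a * f) ?_⟩
    rw [(Commute.orderOf_mul_eq_mul_orderOf_of_coprime hc
      (by rw [hord, hf]; exact (Nat.coprime_primes hm hp).2 hlt.ne)), hord, hf, mul_comm]
  refine ⟨f, hp, hm, hf, fun a => hPn.conj_mem f (Subgroup.mem_zpowers f) a, hout, ?_,
    fun S a haS b hbS ha1 hb => ?_⟩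
  · by_contra h
    push Not at h
    refine hnc f ?_
    rw [← Nat.card_zpowers, (Subgroup.eq_top_iff' _).2 h, Subgroup.card_top, hA]
  · refine Subgroup.eq_top_of_card_eq S ?_
    by_contra hne
    have hd := Subgroup.card_subgroup_dvd_card S
    have hgt : 1 < Nat.card S := S.one_lt_card_iff_ne_bot.2 fun h => ha1 (by
      rw [h, Subgroup.mem_bot] at haS; exact haS)
    rw [hA] at hd hne
    obtain ⟨x, y, hx, hy, hxy⟩ := dvd_mul.1 hd
    have hprime : (Nat.card S).Prime := by
      rcases (Nat.dvd_prime hp).1 hx with rfl | rfl <;>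
        rcases (Nat.dvd_prime hm).1 hy with rfl | rfl
      · omega
      · rw [hxy, one_mul]; exact hm
      · rw [hxy, mul_one]; exact hp
      · exact absurd hxy hne
    refine hb ?_
    have hle : Subgroup.zpowers a ≤ S := Subgroup.zpowers_le.2 haS
    rw [Subgroup.eq_of_le_of_card_ge hle (by
      rw [((Nat.dvd_prime hprime).1 (Subgroup.card_dvd_of_le hle)).resolve_left fun h =>
        ha1 (Subgroup.zpowers_eq_bot.1 (Subgroup.card_eq_one.1 h))])]
    exact hbS

/-- The theorem. -/
theorem nilLcs_pq {A : Type v} [Group A] [Finite A] {p m : ℕ} {f : A} (hA : IsPqGroup p m f)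
    {G : Type u} [Group G] [Finite G] [Group.IsSolvable G] (φ : A →* MulAut G) (hfpf : Fpf φ)
    (hcop : (Nat.card G).Coprime (Nat.card A)) : NilLcs Set.univ G := by
  refine nilLcs_of_no_cfg_coprime Set.univ ⟨0, trivial⟩ (fun _ _ _ _ => trivial)
    (fun G' _ _ _ φ hfpf hcopG C => ?_) _ G φ hfpf hcop rfl
  set R := C.rep hcopG hfpf with hR
  haveI := Fact.mk C.hℓ
  -- the centralizer of `f` is nilpotent
  set F := MonoidHom.eqLocus (φ f).toMonoidHom (MonoidHom.id G') with hF
  have hFmem : ∀ x : G', x ∈ F ↔ φ f x = x := fun _ => Iff.rfl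
  have hfix : ∀ a ∈ Subgroup.zpowers f, ∀ x ∈ F, φ a x = x := by
    intro a ha x hx
    obtain ⟨k, rfl⟩ := Subgroup.mem_zpowers_iff.1 ha
    have : φ f ∈ MulAction.stabilizer (MulAut G') x := hx
    rw [map_zpow]
    exact Subgroup.zpow_mem _ this k
  have hFi : Inv φ F := fun a x hx => by
    rw [hFmem]
    have h := hA.normf a⁻¹
    rw [inv_inv] at h
    calc φ f (φ a x) = φ a (φ (a⁻¹ * f * a) x) := by
          rw [← act_mul, ← act_mul, mul_assoc a⁻¹, mul_inv_cancel_left]
      _ = φ a x := by rw [hfix _ h x hx]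
  haveI hFnil : Group.IsNilpotent F := by
    obtain ⟨b, hb⟩ := hA.exists_out
    refine Cfsg.Agent.FixedPointFreeThompson.isNilpotent (restrict φ F hFi b) hA.hm
      (by rw [← map_pow, ← (hA.outside b hb).1, pow_orderOf_eq_one, map_one]) fun x hx => Subtype.ext ?_
    let S : Subgroup A :=
      { carrier := {e | φ e (x : G') = x}
        one_mem' := act_one φ _
        mul_mem' := fun {e g} he hg => by
          simp only [Set.mem_ofPred_eq] at he hg ⊢
          rw [act_mul, hg, he]
        inv_mem' := fun {e} he => by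
          simp only [Set.mem_ofPred_eq] at he ⊢
          nth_rw 1 [← he]
          rw [act_inv_act] }
    have hf1 : f ≠ 1 := fun h => hA.hp.one_lt.ne (by rw [← hA.ordf, h, orderOf_one])
    exact hfpf _ fun e => (hA.gen S f x.2 b (congrArg Subtype.val hx) hf1 hb ▸ Subgroup.mem_top e :
      e ∈ S)
  obtain ⟨q, r, Q, T, P⟩ := exists_pair C hfpf hcopG
  have hexp : ∀ v : C.W, C.ℓ • v = 0 := by
    let U : AddSubgroup C.W :=
      { carrier := {v | C.ℓ • v = 0}
        zero_mem' := smul_zero _
        add_mem' := fun {a b} ha hb => by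
          simp only [Set.mem_ofPred_eq] at ha hb ⊢
          rw [smul_add, ha, hb, add_zero]
        neg_mem' := fun {a} ha => by
          simp only [Set.mem_ofPred_eq] at ha ⊢
          rw [smul_neg, ha, neg_zero] }
    rcases R.irred U
        (fun h v hv => (map_nsmul (R.ρ h) C.ℓ v).symm.trans (by rw [show C.ℓ • v = 0 from hv, map_zero]))
        (fun a v hv => (map_nsmul (R.σ a) C.ℓ v).symm.trans (by rw [show C.ℓ • v = 0 from hv, map_zero]))
      with h | h
    · exfalso
      obtain ⟨k, hk⟩ := IsPGroup.iff_card.1 C.hVp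
      have hk0 : k ≠ 0 := fun h0 => C.hVne (by rw [h0, pow_zero, Subgroup.card_eq_one] at hk; exact hk)
      obtain ⟨v, hv⟩ := exists_prime_addOrderOf_dvd_card' (G := C.W) C.ℓ (by
        rw [Nat.card_congr Additive.toMul, hk]; exact dvd_pow_self _ hk0)
      have hvU : v ∈ U := by
        change C.ℓ • v = 0
        rw [← hv, addOrderOf_nsmul_eq_zero]
      rw [h, AddSubgroup.mem_bot] at hvU
      rw [hvU, addOrderOf_zero] at hv
      exact C.hℓ.one_lt.ne hv
    · exact fun v => (h ▸ AddSubgroup.mem_top v : v ∈ U)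
  have F' : IsPq R p m q r C.ℓ f Q T :=
    { hp := hA.hp, hm := hA.hm, hℓ := C.hℓ, expW := hexp, ordf := hA.ordf, normf := hA.normf
      outside := hA.outside, exists_out := hA.exists_out, gen := hA.gen, pair := P
      fpfH := restrict_fpf φ hfpf C.H C.hHi
      centr := fun h v hch hord hcv => by
        change C.ρ h v = v
        refine C.ρ_of_commute ?_
        obtain ⟨j, hj⟩ := IsPGroup.iff_orderOf.1 C.hVp (Additive.toMul v)
        rw [← Subgroup.orderOf_coe] at hj
        have hcop' : (orderOf (h : G')).Coprime C.ℓ := by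
          rw [Subgroup.orderOf_coe]
          obtain ⟨e, he⟩ := IsPGroup.iff_card.1 C.hVp
          rw [Nat.card_congr Additive.toMul, he] at hord
          refine (Nat.coprime_pow_right_iff (Nat.pos_of_ne_zero fun h0 => C.hVne ?_) _ _).1 hord
          rw [h0, pow_zero, Subgroup.card_eq_one] at he
          exact he
        exact congrArg Subtype.val (Cfsg.Agent.FixedPointFreeThompson.commute_of_nilpotent
          (x := (⟨_, congrArg C.val hcv⟩ : F)) (g := ⟨_, congrArg Subtype.val hch⟩) (p := C.ℓ)
          (k := j) ((Subgroup.orderOf_coe _).symm.trans hj)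
          (hcop'.coprime_dvd_left (Subgroup.orderOf_coe _).symm.dvd))
      trivF := fun hfix' => by
        haveI hHnil : Group.IsNilpotent C.H := by
          refine isNilpotent_of_injective (C.H.subtype.codRestrict F
            fun h => congrArg Subtype.val (hfix' h)) fun x y h => ?_
          exact Subtype.ext (congrArg Subtype.val h :)
        obtain ⟨n, hn⟩ := Subgroup.nilpotent_iff_lowerCentralSeries.1 hHnil
        exact (C.hnot n trivial hn).elim }
  exact F'.false

end Cfsg.Agent.PqFpf
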