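import Mathlib.GroupTheory.PGroup
import Mathlib.GroupTheory.OrderOfElement
import Mathlib.LinearAlgebra.Vandermonde
import Mathlib.LinearAlgebra.Matrix.Adjugate
import Mathlib.Algebra.MonoidAlgebra.Basic
import Mathlib.Algebra.Module.ZMod
import Mathlib.FieldTheory.Finite.Basic
import Mathlib.Algebra.Polynomial.Expand
import Mathlib.Tactic

/-!
Automorphisms of prime order of a finite abelian group with a non-degenerate alternating pairing:
two consequences of the centralizer bound.
-/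

set_option autoImplicit false
set_option linter.style.haveILetI false
set_option linter.unusedSectionVars false

namespace Cfsg.Agent.PqFpf

open scoped BigOperators

universe u v

/-- A Vandermonde system with unit-like differences has only the trivial solution, in both
directions. -/
theorem vandermonde_zero {R : Type*} [CommRing R] {W : Type*} [AddCommGroup W]
    (F : R →+* AddMonoid.End W) {n : ℕ} (v : Fin n → R)
    (hv : ∀ a b : Fin n, a ≠ b → ∀ w, F (v a - v b) w = 0 → w = 0) :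
    (∀ x : Fin n → W, (∀ k : Fin n, ∑ i : Fin n, F (v k ^ (i : ℕ)) (x i) = 0) → ∀ i, x i = 0) ∧
      ∀ x : Fin n → W, (∀ i : Fin n, ∑ k, F (v k ^ (i : ℕ)) (x k) = 0) → ∀ k, x k = 0 := by
  classical
  have hdet : ∀ w, F (Matrix.vandermonde v).det w = 0 → w = 0 := by
    intro w hw
    rw [Matrix.det_vandermonde] at hw
    have key : ∀ (S : Finset (Fin n)) (g : Fin n → R), (∀ a ∈ S, ∀ w, F (g a) w = 0 → w = 0) →
        ∀ w, F (∏ a ∈ S, g a) w = 0 → w = 0 := by
      intro S g hg
      induction S using Finset.induction_on with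
      | empty => intro w hw; simpa using hw
      | insert a S ha ih =>
        intro w hw
        rw [Finset.prod_insert ha, map_mul] at hw
        exact ih (fun b hb => hg b (Finset.mem_insert_of_mem hb)) w
          (hg a (Finset.mem_insert_self a S) _ hw)
    exact key _ _ (fun a _ => key _ _ fun b hb =>
      hv b a (Finset.mem_Ioi.1 hb).ne') w hw
  have key : ∀ (M : Matrix (Fin n) (Fin n) R), M.det = (Matrix.vandermonde v).det →
      ∀ x : Fin n → W, (∀ k, ∑ i, F (M k i) (x i) = 0) → ∀ i, x i = 0 := by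
    intro M hM x hx i
    refine hdet _ ?_
    rw [← hM]
    have h1 : ∀ j, F ((M.adjugate * M) i j) = if i = j then F M.det else 0 := by
      intro j
      rw [Matrix.adjugate_mul, Matrix.smul_apply, Matrix.one_apply, smul_eq_mul]
      split_ifs with h
      · rw [mul_one]
      · rw [mul_zero, map_zero]
    calc F M.det (x i) = ∑ j, F ((M.adjugate * M) i j) (x j) := by
          rw [Finset.sum_eq_single i]
          · rw [h1, if_pos rfl]
          · intro j _ hj
            rw [h1, if_neg (Ne.symm hj)]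
            rfl
          · intro h
            exact absurd (Finset.mem_univ i) h
      _ = ∑ j, ∑ k, F (M.adjugate i k) (F (M k j) (x j)) := by
          refine Finset.sum_congr rfl fun j _ => ?_
          rw [Matrix.mul_apply, map_sum]
          exact (AddMonoidHom.finsetSum_apply _ _ _).trans
            (Finset.sum_congr rfl fun k _ => by rw [map_mul]; rfl)
      _ = ∑ k, F (M.adjugate i k) (∑ j, F (M k j) (x j)) := by
          rw [Finset.sum_comm]
          exact Finset.sum_congr rfl fun k _ => (map_sum _ _ _).symm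
      _ = 0 := by simp [hx]
  refine ⟨fun x hx => key (Matrix.vandermonde v) rfl x fun k => ?_,
    fun x hx => key (Matrix.vandermonde v).transpose (Matrix.det_transpose _) x fun k => ?_⟩
  · simpa [Matrix.vandermonde_apply] using hx k
  · simpa [Matrix.vandermonde_apply] using hx k

theorem eq_one_of_pow_coprime {G : Type*} [Group G] {n : ℕ} {g : G}
    (h : (orderOf g).Coprime n) (hg : g ^ n = 1) : g = 1 :=
  orderOf_eq_one_iff.1 (Nat.eq_one_of_dvd_coprimes h dvd_rfl (orderOf_dvd_of_pow_eq_one hg))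

theorem orderOf_pow_coprime {G : Type*} [Group G] [Finite G] {n : ℕ} (hn : (Nat.card G).Coprime n)
    (g : G) (hg : g ^ n = 1) : g = 1 :=
  eq_one_of_pow_coprime (hn.coprime_dvd_left (orderOf_dvd_natCard g)) hg

/-- A small numerical fact. -/
theorem not_square_bound {m c N d : ℕ} (hm : m.Prime) (hc : 2 ≤ c) (h1 : c ^ m ≤ N)
    (h2 : N ≤ (m - 1) ^ 2 * c) (hd : N = d ^ 2) : False := by
  have hm2 := hm.two_le
  obtain ⟨k, rfl⟩ : ∃ k, m = k + 1 := ⟨m - 1, by omega⟩
  simp only [Nat.add_sub_cancel] at h2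
  have h3 : c ^ k * c ≤ k ^ 2 * c := by rw [← pow_succ]; exact h1.trans h2
  have h4 : c ^ k ≤ k ^ 2 := Nat.le_of_mul_le_mul_right h3 (by omega)
  have h5 : 2 ^ k ≤ k ^ 2 := (Nat.pow_le_pow_left hc k).trans h4
  have hk : k ≤ 4 := by
    by_contra hk
    have : ∀ j, 5 ≤ j → j ^ 2 < 2 ^ j := by
      intro j hj
      induction j, hj using Nat.le_induction with
      | base => norm_num
      | succ j hj ih => rw [pow_succ 2 j]; nlinarith
    exact absurd (this k (by omega)) (by omega)
  rcases (show k = 1 ∨ k = 2 ∨ k = 3 ∨ k = 4 by omega) with rfl | rfl | rfl | rfl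
  · simp at h4; omega
  · have : c ≤ 2 := by nlinarith
    obtain rfl : c = 2 := by omega
    have hN : N = 8 := by norm_num at h1 h2; omega
    subst hN
    have : d < 3 := by nlinarith
    interval_cases d <;> norm_num at hd
  · exact absurd hm (by norm_num)
  · have : c ≤ 2 := by
      by_contra hc3
      have h6 := Nat.pow_le_pow_left (show 3 ≤ c by omega) 4
      norm_num at h4 h6
      omega
    obtain rfl : c = 2 := by omega
    have hN : N = 32 := by norm_num at h1 h2; omega
    subst hN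
    have : d < 6 := by nlinarith
    interval_cases d <;> norm_num at hd

/-- The hypotheses: a pairing and the two consequences of the centralizer bound. -/
structure Symp (M : Type u) [CommGroup M] (Z : Type v) [CommGroup Z] (γ : MulAut M) (m : ℕ) where
  e : M →* M →* Z
  alt : ∀ x, e x x = 1
  nondeg : ∀ x, (∀ y, e x y = 1) → x = 1
  hm : m.Prime
  hγ : γ ^ m = 1
  hbound : ∀ N : Subgroup M, (∀ x ∈ N, γ x ∈ N) →
    (∀ x ∈ N, (∀ y ∈ N, e x y = 1) → x = 1) →
      ∃ d, Nat.card N = d ^ 2 ∧ Nat.card N ≤ (m - 1) ^ 2 * Nat.card {x : M // x ∈ N ∧ γ x = x}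
  hiso : ∀ N : Subgroup M, (∀ x ∈ N, γ x ∈ N) → (∀ x ∈ N, ∀ y ∈ N, e x y = 1) →
    ∀ x ∈ N, γ x = x

namespace Symp

variable {M : Type u} [CommGroup M] [Finite M] {Z : Type v} [CommGroup Z] {γ : MulAut M} {m : ℕ}
  (S : Symp M Z γ m)

theorem anti (x y : M) : S.e x y = (S.e y x)⁻¹ := by
  have h := S.alt (x * y)
  simp only [map_mul, MonoidHom.mul_apply, S.alt, one_mul, mul_one] at h
  exact eq_inv_of_mul_eq_one_left (by first | exact h | (rw [mul_comm]; exact h))

include S in
theorem orderγ (h : γ ≠ 1) : orderOf γ = m :=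
  haveI := Fact.mk S.hm
  orderOf_eq_prime S.hγ h

theorem pow_mem {N : Subgroup M} (hN : ∀ x ∈ N, γ x ∈ N) (k : ℕ) : ∀ x ∈ N, (γ ^ k) x ∈ N := by
  induction k with
  | zero => intro x hx; simpa using hx
  | succ k ih => intro x hx; rw [pow_succ', MulAut.mul_apply]; exact hN _ (ih x hx)

include S in
theorem γ_sum (g : ℕ → M) (hg : ∀ k, γ (g k) = g (k + 1)) (hper : g m = g 0) :
    γ (∏ k ∈ Finset.range m, g k) = ∏ k ∈ Finset.range m, g k := by
  rw [map_prod, Finset.prod_congr rfl fun k _ => hg k]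
  have h1 := Finset.prod_range_succ' g m
  have h2 := Finset.prod_range_succ g m
  rw [h2, hper] at h1
  exact (mul_right_cancel h1).symm

/-- An abelian group of automorphisms normalized by `γ` and preserving the pairing, of order prime
to the order of `M`, is centralized by `γ`. -/
theorem commute_of_normalized (T : Subgroup (MulAut M)) (hTc : ∀ a ∈ T, ∀ b ∈ T, a * b = b * a)
    (hTγ : ∀ a ∈ T, γ * a * γ⁻¹ ∈ T) (hTe : ∀ a ∈ T, ∀ x y, S.e (a x) (a y) = S.e x y)
    (hcop : (Nat.card M).Coprime (Nat.card T)) : ∀ a ∈ T, γ * a * γ⁻¹ = a := by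
  classical
  haveI := Fintype.ofFinite M
  by_contra hcon
  push Not at hcon
  obtain ⟨a₀, ha₀, hne₀⟩ := hcon
  have hγ1 : γ ≠ 1 := fun h => hne₀ (by rw [h, one_mul, inv_one, mul_one])
  -- the conjugates of `γ`
  have hθ : ∀ k : ℕ, ∀ a ∈ T, γ ^ k * a * (γ ^ k)⁻¹ ∈ T := by
    intro k
    induction k with
    | zero => intro a ha; simpa using ha
    | succ k ih =>
      intro a ha
      have := hTγ _ (ih a ha)
      rw [pow_succ']
      convert this using 1
      group
  let E : Subgroup (MulAut M) :=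
    { carrier := {g | ∃ a ∈ T, γ * a * γ⁻¹ * a⁻¹ = g}
      one_mem' := ⟨1, one_mem T, by group⟩
      mul_mem' := by
        rintro _ _ ⟨a, ha, rfl⟩ ⟨b, hb, rfl⟩
        refine ⟨a * b, mul_mem ha hb, ?_⟩
        have h1 := hTc _ (inv_mem ha) _ (mul_mem (hTγ b hb) (inv_mem hb))
        calc γ * (a * b) * γ⁻¹ * (a * b)⁻¹
            = γ * a * γ⁻¹ * ((γ * b * γ⁻¹ * b⁻¹) * a⁻¹) := by group
          _ = γ * a * γ⁻¹ * (a⁻¹ * (γ * b * γ⁻¹ * b⁻¹)) := by rw [h1]
          _ = γ * a * γ⁻¹ * a⁻¹ * (γ * b * γ⁻¹ * b⁻¹) := by group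
      inv_mem' := by
        rintro _ ⟨a, ha, rfl⟩
        refine ⟨a⁻¹, inv_mem ha, ?_⟩
        have h1 := hTc _ (inv_mem (hTγ a ha)) _ ha
        calc γ * a⁻¹ * γ⁻¹ * a⁻¹⁻¹ = (γ * a * γ⁻¹)⁻¹ * a := by group
          _ = a * (γ * a * γ⁻¹)⁻¹ := h1
          _ = (γ * a * γ⁻¹ * a⁻¹)⁻¹ := by group }
  have hET : E ≤ T := by
    rintro _ ⟨a, ha, rfl⟩
    exact mul_mem (hTγ a ha) (inv_mem ha)
  have hEγ : ∀ g ∈ E, γ * g * γ⁻¹ ∈ E := by
    rintro _ ⟨a, ha, rfl⟩
    exact ⟨γ * a * γ⁻¹, hTγ a ha, by group⟩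
  -- fixed points
  let Fix : Subgroup (MulAut M) → Subgroup M := fun K =>
    { carrier := {x | ∀ g ∈ K, g x = x}
      one_mem' := fun g _ => map_one g
      mul_mem' := fun {x y} hx hy g hg => by rw [map_mul, hx g hg, hy g hg]
      inv_mem' := fun {x} hx g hg => by rw [map_inv, hx g hg] }
  obtain ⟨T₁, ⟨hT₁, hT₁ne⟩, hmax⟩ := Set.Finite.exists_maximal
    (s := {K : Subgroup (MulAut M) | K ≤ T ∧ ¬ Fix K ≤ Fix E}) (Set.toFinite _)
    ⟨⊥, bot_le, fun h => hne₀ (mul_inv_eq_one.1 (MulEquiv.ext fun x =>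
      h (show x ∈ Fix ⊥ from fun g hg => by rw [Subgroup.mem_bot.1 hg]; rfl) _ ⟨a₀, ha₀, rfl⟩))⟩
  have hlarge : ∀ K : Subgroup (MulAut M), T₁ < K → K ≤ T → Fix K ≤ Fix E := fun K hlt hK =>
    by_contra fun h => hlt.not_ge (hmax ⟨hK, h⟩ hlt.le)
  haveI : Finite (MulAut M) := Finite.of_injective (fun g : MulAut M => (g : M → M))
    DFunLike.coe_injective
  haveI := Fintype.ofFinite E
  haveI := Fintype.ofFinite T₁
  let nE : M →* M :=
    { toFun := fun x => ∏ g : E, (g : MulAut M) x
      map_one' := Finset.prod_eq_one fun g _ => map_one (g : MulAut M)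
      map_mul' := fun x y => by simp only [map_mul, Finset.prod_mul_distrib] }
  have hnE : ∀ x, nE x ∈ Fix E := by
    intro x g hg
    change g (∏ h : E, (h : MulAut M) x) = _
    rw [map_prod]
    exact Fintype.prod_equiv (Equiv.mulLeft (⟨g, hg⟩ : E)) _ _ fun h => rfl
  have hnEfix : ∀ x ∈ Fix E, nE x = x ^ Nat.card E := by
    intro x hx
    change ∏ g : E, (g : MulAut M) x = _
    rw [Finset.prod_congr rfl fun (g : E) _ => hx g g.2, Finset.prod_const, Finset.card_univ,
      Nat.card_eq_fintype_card]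
  have hcopE : (Nat.card M).Coprime (Nat.card E) :=
    hcop.coprime_dvd_right (Subgroup.card_dvd_of_le hET)
  set M₁ : Subgroup M := Fix T₁ ⊓ nE.ker with hM₁
  have hTFix : ∀ {K : Subgroup (MulAut M)}, K ≤ T → ∀ {a}, a ∈ T → ∀ x ∈ Fix K, a x ∈ Fix K :=
    fun {K} hK {a} ha x hx g hg => by
      rw [← MulAut.mul_apply, hTc g (hK hg) a ha, MulAut.mul_apply, hx g hg]
  have hTM : ∀ a ∈ T, ∀ x ∈ M₁, a x ∈ M₁ := fun a ha x hx => ⟨hTFix hT₁ ha x hx.1, by
    change ∏ g : E, (g : MulAut M) (a x) = 1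
    rw [Finset.prod_congr rfl fun (g : E) _ =>
      show (g : MulAut M) (a x) = a ((g : MulAut M) x) by
        rw [← MulAut.mul_apply, hTc _ (hET g.2) a ha, MulAut.mul_apply], ← map_prod]
    rw [show ∏ g : E, (g : MulAut M) x = nE x from rfl, MonoidHom.mem_ker.1 hx.2, map_one]⟩
  have hM₁E : ∀ x ∈ M₁, x ∈ Fix E → x = 1 := fun x hx hE =>
    orderOf_pow_coprime hcopE x (by rw [← hnEfix x hE]; exact MonoidHom.mem_ker.1 hx.2)
  have hfree : ∀ g ∈ T, g ∉ T₁ → ∀ x ∈ M₁, g x = x → x = 1 := by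
    intro g hg hg₁ x hx hgx
    refine hM₁E x hx (hlarge (T₁ ⊔ Subgroup.zpowers g) (left_lt_sup.2 fun h =>
      hg₁ (h (Subgroup.mem_zpowers g))) (sup_le hT₁ (Subgroup.zpowers_le.2 hg)) ?_)
    intro k hk
    have hle : T₁ ⊔ Subgroup.zpowers g ≤ MulAction.stabilizer (MulAut M) x :=
      sup_le (fun k hk => hx.1 k hk) (Subgroup.zpowers_le.2 hgx)
    exact hle hk
  have hM₁ne : ∃ x ∈ M₁, x ≠ 1 := by
    by_contra h
    push Not at h
    refine hT₁ne fun x hx => ?_
    have h1 : x ^ Nat.card E * (nE x)⁻¹ ∈ M₁ := by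
      refine ⟨(mul_mem ((Fix T₁).pow_mem hx _) (inv_mem ?_) : _ ∈ Fix T₁), ?_⟩
      · exact prod_mem fun g _ => hTFix hT₁ (hET g.2) x hx
      · change nE _ = 1
        rw [map_mul, map_inv, map_pow, hnEfix _ (hnE x), mul_inv_cancel]
    have h2 := mul_inv_eq_one.1 (h _ h1)
    obtain ⟨j, hj⟩ := exists_pow_eq_self_of_coprime
      ((hcopE.coprime_dvd_left (orderOf_dvd_natCard x)).symm)
    rw [← hj, h2]
    exact (Fix E).pow_mem (hnE x) j
  -- elements outside `T₁` displace all of `M₁`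
  have hsurj : ∀ g ∈ T, g ∉ T₁ → ∀ x ∈ M₁, ∃ w ∈ M₁, g w * w⁻¹ = x := by
    intro g hg hg₁ x hx
    let f : M₁ → M₁ := fun w => ⟨g w * (w : M)⁻¹, mul_mem (hTM g hg w w.2) (inv_mem w.2)⟩
    have hf : Function.Injective f := fun a b h => by
      have h' : g a * (a : M)⁻¹ = g b * (b : M)⁻¹ := congrArg Subtype.val h
      refine Subtype.ext (mul_inv_eq_one.1 (hfree g hg hg₁ _ (mul_mem a.2 (inv_mem b.2)) ?_))
      rw [map_mul, map_inv]
      calc g a * (g b)⁻¹ = g a * (a : M)⁻¹ * (g b * (b : M)⁻¹)⁻¹ * ((a : M) * (b : M)⁻¹) := by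
            simp only [mul_inv_rev, inv_inv, mul_comm, mul_assoc, mul_left_comm,
              mul_inv_cancel_left, inv_mul_cancel_left]
        _ = (a : M) * (b : M)⁻¹ := by rw [h', mul_inv_cancel, one_mul]
    obtain ⟨w, hw⟩ := Finite.injective_iff_surjective.1 hf ⟨x, hx⟩
    exact ⟨w, w.2, congrArg Subtype.val hw⟩
  have horth : ∀ g ∈ T, g ∉ T₁ → ∀ x ∈ M₁, ∀ y, g y = y → S.e x y = 1 := by
    intro g hg hg₁ x hx y hy
    obtain ⟨w, -, rfl⟩ := hsurj g hg hg₁ x hx
    rw [map_mul, map_inv, MonoidHom.mul_apply, MonoidHom.inv_apply, mul_inv_eq_one]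
    conv_lhs => rw [← hy]
    exact hTe g hg w y
  by_cases hstab : ∀ a ∈ T₁, γ * a * γ⁻¹ ∈ T₁
  swap
  · -- an isotropic orbit
    obtain ⟨x, hx, hx1⟩ := hM₁ne
    let conjT : ℕ → Subgroup (MulAut M) := fun k => T₁.map (MulAut.conj (γ ^ k)).toMonoidHom
    have hpair : ∀ i k, i < m → k < m → i ≠ k → S.e ((γ ^ i) x) ((γ ^ k) x) = 1 := by
      intro i k hi hk hik
      obtain ⟨g, hg, hgi⟩ : ∃ g ∈ T₁,
          (γ ^ i)⁻¹ * (γ ^ k * g * (γ ^ k)⁻¹) * γ ^ i ∉ T₁ := by
        by_contra h
        push Not at h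
        set δ := (γ ^ i)⁻¹ * γ ^ k with hδ
        have hδT : ∀ g ∈ T₁, δ * g * δ⁻¹ ∈ T₁ := fun g hg => by
          convert h g hg using 1; rw [hδ]; group
        have hδz : γ ∈ Subgroup.zpowers δ := by
          haveI := Fact.mk S.hm
          have hne : δ ≠ 1 := fun e => hik (pow_injOn_Iio_orderOf
            (by rw [Set.mem_Iio, S.orderγ hγ1]; exact hi)
            (by rw [Set.mem_Iio, S.orderγ hγ1]; exact hk)
            (inv_mul_eq_one.1 e))
          have hmz : (⟨γ, Subgroup.mem_zpowers γ⟩ : Subgroup.zpowers γ) ∈ Subgroup.zpowers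
              (⟨δ, mul_mem (inv_mem (Subgroup.npow_mem_zpowers γ i))
                (Subgroup.npow_mem_zpowers γ k)⟩ : Subgroup.zpowers γ) :=
            mem_zpowers_of_prime_card (p := m) (by rw [Nat.card_zpowers, S.orderγ hγ1])
              fun e => hne (congrArg Subtype.val e)
          obtain ⟨z, hz⟩ := Subgroup.mem_zpowers_iff.1 hmz
          exact Subgroup.mem_zpowers_iff.2 ⟨z, by simpa using congrArg Subtype.val hz⟩
        have hpow : ∀ n : ℕ, ∀ g ∈ T₁, δ ^ n * g * (δ ^ n)⁻¹ ∈ T₁ := by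
          intro n
          induction n with
          | zero => intro g hg; simpa using hg
          | succ n ih =>
            intro g hg
            convert hδT _ (ih g hg) using 1
            rw [pow_succ']; group
        obtain ⟨n, hn⟩ := (isOfFinOrder_of_finite δ).mem_powers_iff_mem_zpowers.2 hδz
        refine hstab fun a ha => ?_
        have := hpow n a ha
        rwa [show δ ^ n = γ from hn] at this
      set g' := (γ ^ i)⁻¹ * (γ ^ k * g * (γ ^ k)⁻¹) * γ ^ i with hg'
      have hg'T : g' ∈ T := by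
        have h1 := hθ k g (hT₁ hg)
        have h2 := hθ (m - i) _ h1
        rwa [show γ ^ (m - i) = (γ ^ i)⁻¹ from eq_inv_of_mul_eq_one_left
          (by rw [← pow_add, Nat.sub_add_cancel hi.le, S.hγ]), inv_inv] at h2
      obtain ⟨w, -, hw⟩ := hsurj g' hg'T hgi x hx
      have e1 : (γ ^ i) x = (γ ^ k * g * (γ ^ k)⁻¹) ((γ ^ i) w) * ((γ ^ i) w)⁻¹ := by
        rw [← hw, map_mul, map_inv, ← MulAut.mul_apply, ← MulAut.mul_apply]
        congr 2
        rw [hg']; group
      have e2 : (γ ^ k * g * (γ ^ k)⁻¹) ((γ ^ k) x) = (γ ^ k) x := by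
        rw [← MulAut.mul_apply, inv_mul_cancel_right, MulAut.mul_apply, hx.1 g hg]
      rw [e1, map_mul, map_inv, MonoidHom.mul_apply, MonoidHom.inv_apply, mul_inv_eq_one]
      conv_lhs => rw [← e2]
      exact hTe _ (hθ k g (hT₁ hg)) _ _
    set N := Subgroup.closure {y | ∃ i, i < m ∧ (γ ^ i) x = y} with hN
    have hNγ : ∀ y ∈ N, γ y ∈ N := by
      intro y hy
      refine (Subgroup.closure_le (K := N.comap γ.toMonoidHom)).2 ?_ hy
      rintro _ ⟨i, hi, rfl⟩
      change γ ((γ ^ i) x) ∈ N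
      rw [← MulAut.mul_apply, ← pow_succ']
      by_cases hlast : i + 1 < m
      · exact Subgroup.subset_closure ⟨i + 1, hlast, rfl⟩
      · rw [show i + 1 = m by omega, S.hγ]
        exact Subgroup.subset_closure ⟨0, S.hm.pos, by rw [pow_zero]⟩
    have hgen : ∀ i, i < m → N ≤ (S.e ((γ ^ i) x)).ker := fun i hi => by
      rw [hN, Subgroup.closure_le]
      rintro _ ⟨k, hk, rfl⟩
      rw [SetLike.mem_coe, MonoidHom.mem_ker]
      by_cases hik : i = k
      · rw [hik, S.alt]
      · exact hpair i k hi hk hik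
    have hiso : ∀ y ∈ N, ∀ z ∈ N, S.e y z = 1 := by
      intro y hy z hz
      rw [S.anti, inv_eq_one]
      have : N ≤ (S.e z).ker := by
        rw [hN, Subgroup.closure_le]
        rintro _ ⟨i, hi, rfl⟩
        rw [SetLike.mem_coe, MonoidHom.mem_ker, S.anti, inv_eq_one]
        exact hgen i hi hz
      exact this hy
    have hxfix : γ x = x :=
      S.hiso N hNγ hiso x (Subgroup.subset_closure ⟨0, S.hm.pos, by rw [pow_zero]; rfl⟩)
    push Not at hstab
    obtain ⟨g, hg, hg'⟩ := hstab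
    refine hx1 (hfree _ (hTγ g (hT₁ hg)) hg' x hx ?_)
    have hinv : γ⁻¹ x = x := by
      conv_lhs => rw [← hxfix]
      exact MulAut.inv_apply_self M γ x
    rw [MulAut.mul_apply, MulAut.mul_apply, hinv, hx.1 g hg, hxfix]
  -- `γ` normalizes `T₁`
  have hγM : ∀ x ∈ M₁, γ x ∈ M₁ := by
    have hpre : ∀ {K : Subgroup (MulAut M)}, (∀ g ∈ K, γ * g * γ⁻¹ ∈ K) → ∀ g ∈ K,
        γ⁻¹ * g * γ ∈ K := by
      intro K hK g hg
      have hp : ∀ n : ℕ, γ ^ n * g * (γ ^ n)⁻¹ ∈ K := by
        intro n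
        induction n with
        | zero => simpa using hg
        | succ n ih => convert hK _ ih using 1; rw [pow_succ']; group
      have := hp (m - 1)
      rwa [show γ ^ (m - 1) = γ⁻¹ from eq_inv_of_mul_eq_one_left
        (by rw [← pow_succ, Nat.sub_add_cancel S.hm.pos, S.hγ]), inv_inv] at this
    rintro x ⟨hx1, hx2⟩
    refine ⟨fun g hg => ?_, ?_⟩
    · have := hx1 _ (hpre hstab g hg)
      rw [MulAut.mul_apply, MulAut.mul_apply] at this
      have h := congrArg γ this
      rwa [MulAut.apply_inv_self] at h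
    · replace hx2 : nE x = 1 := hx2
      change ∏ g : E, (g : MulAut M) (γ x) = 1
      have key : ∏ g : E, (g : MulAut M) (γ x) = γ (∏ g : E, (g : MulAut M) x) := by
        rw [map_prod]
        refine Fintype.prod_bijective (fun g : E => (⟨γ⁻¹ * g * γ, hpre hEγ g g.2⟩ : E))
          (Finite.injective_iff_bijective.1 fun g g' h => Subtype.ext ?_) _ _ fun g => ?_
        · have := congrArg Subtype.val h
          simpa using congrArg (fun z => γ * z * γ⁻¹) this
        · simp [MulAut.mul_apply, MulAut.apply_inv_self]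
      rw [key, show ∏ g : E, (g : MulAut M) x = nE x from rfl, hx2, map_one]
  have hnd : ∀ x ∈ M₁, (∀ y ∈ M₁, S.e x y = 1) → x = 1 := by
    intro x hx h
    refine S.nondeg x fun y => ?_
    obtain ⟨g₀, hg₀E, hg₀⟩ : ∃ g ∈ E, g ∉ T₁ := by
      by_contra hall
      push Not at hall
      obtain ⟨z, hz, hz1⟩ := hM₁ne
      exact hz1 (hM₁E z hz fun g hg => hz.1 g (hall g hg))
    -- first reduce to vectors fixed by `T₁`
    have hfixT : ∀ y ∈ Fix T₁, S.e x y = 1 := by
      intro y hy
      have h1 : y ^ Nat.card E * (nE y)⁻¹ ∈ M₁ := by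
        refine ⟨(mul_mem ((Fix T₁).pow_mem hy _) (inv_mem ?_) : _ ∈ Fix T₁), ?_⟩
        · exact prod_mem fun g _ => hTFix hT₁ (hET g.2) y hy
        · change nE _ = 1
          rw [map_mul, map_inv, map_pow, hnEfix _ (hnE y), mul_inv_cancel]
      have h2 := h _ h1
      rw [map_mul, map_inv, horth g₀ (hET hg₀E) hg₀ x hx _ (hnE y g₀ hg₀E), inv_one, mul_one] at h2
      obtain ⟨j, hj⟩ := exists_pow_eq_self_of_coprime
        ((hcopE.coprime_dvd_left (orderOf_dvd_natCard y)).symm)
      rw [← hj, map_pow, h2, one_pow]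
    have h1 : (∏ g : T₁, (g : MulAut M) y) ∈ Fix T₁ := fun g hg => by
      rw [map_prod]
      exact Fintype.prod_equiv (Equiv.mulLeft (⟨g, hg⟩ : T₁)) _ _ fun k => rfl
    have h2 := hfixT _ h1
    rw [map_prod, Finset.prod_congr rfl fun (g : T₁) _ => show S.e x ((g : MulAut M) y) = S.e x y by
      conv_lhs => rw [← hx.1 g g.2]
      exact hTe g (hT₁ g.2) x y, Finset.prod_const, Finset.card_univ,
      ← Nat.card_eq_fintype_card, ← map_pow] at h2
    obtain ⟨j, hj⟩ := exists_pow_eq_self_of_coprime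
      (((hcop.coprime_dvd_right (Subgroup.card_dvd_of_le hT₁)).coprime_dvd_left
        (orderOf_dvd_natCard y)).symm)
    rw [← hj, map_pow, h2, one_pow]
  obtain ⟨d, hd, hle⟩ := S.hbound M₁ hγM hnd
  -- an element with distinct translates
  obtain ⟨τ, hτ, hτ₁⟩ : ∃ a ∈ T, γ * a * γ⁻¹ * a⁻¹ ∉ T₁ := by
    by_contra h
    push Not at h
    obtain ⟨z, hz, hz1⟩ := hM₁ne
    exact hz1 (hM₁E z hz fun g ⟨a, ha, hg⟩ => hz.1 g (hg ▸ h a ha))
  have hdist : ∀ a b, a < m → b < m → a ≠ b →
      γ ^ a * τ * (γ ^ a)⁻¹ * (γ ^ b * τ * (γ ^ b)⁻¹)⁻¹ ∉ T₁ := by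
    intro a b ha hb hab hmem
    have hconj : ∀ n : ℕ, ∀ g ∈ T₁, γ ^ n * g * (γ ^ n)⁻¹ ∈ T₁ := by
      intro n
      induction n with
      | zero => intro g hg; simpa using hg
      | succ n ih => intro g hg; convert hstab _ (ih g hg) using 1; rw [pow_succ']; group
    -- the translations fixing `τ` modulo `T₁`
    let G₀ : Submonoid (MulAut M) :=
      { carrier := {δ | (∃ n : ℕ, δ = γ ^ n) ∧ δ * τ * δ⁻¹ * τ⁻¹ ∈ T₁}
        one_mem' := ⟨⟨0, rfl⟩, by simp⟩
        mul_mem' := by
          rintro δ δ' ⟨⟨n, rfl⟩, h⟩ ⟨⟨n', rfl⟩, h'⟩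
          refine ⟨⟨n + n', (pow_add γ n n').symm⟩, ?_⟩
          convert mul_mem (hconj n _ h') h using 1
          group }
    have hδ : γ ^ (m - b + a) ∈ G₀ := by
      refine ⟨⟨_, rfl⟩, ?_⟩
      have := hconj (m - b) _ hmem
      convert this using 1
      rw [pow_add, show γ ^ (m - b) = (γ ^ b)⁻¹ from eq_inv_of_mul_eq_one_left
        (by rw [← pow_add, Nat.sub_add_cancel hb.le, S.hγ])]
      group
    have hne : ¬ m ∣ m - b + a := by
      intro hdv
      obtain ⟨c, hc⟩ := hdv
      rcases c with _ | _ | c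
      · omega
      · omega
      · have := Nat.mul_le_mul_left m (show 2 ≤ c + 1 + 1 by omega)
        omega
    obtain ⟨n, hn⟩ := exists_pow_eq_self_of_coprime (x := γ) (n := m - b + a) (by
      rw [S.orderγ hγ1]
      exact (S.hm.coprime_iff_not_dvd.2 hne).symm)
    exact hτ₁ (hn ▸ G₀.pow_mem hδ n : γ ∈ G₀).2
  -- the Vandermonde system
  letI : CommGroup T :=
    { (inferInstance : Group T) with mul_comm := fun a b => Subtype.ext (hTc _ a.2 _ b.2) }
  let act : T →* AddMonoid.End (Additive M₁) :=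
    { toFun := fun a =>
        { toFun := fun x => Additive.ofMul ⟨(a : MulAut M) (x.toMul : M₁), hTM a a.2 _ x.toMul.2⟩
          map_zero' := congrArg Additive.ofMul (Subtype.ext (map_one (a : MulAut M)))
          map_add' := fun x y =>
            congrArg Additive.ofMul (Subtype.ext (map_mul (a : MulAut M) _ _)) }
      map_one' := rfl
      map_mul' := fun a b => rfl }
  let F : MonoidAlgebra ℤ T →+* AddMonoid.End (Additive M₁) :=
    (MonoidAlgebra.lift ℤ (AddMonoid.End (Additive M₁)) T act).toRingHom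
  have hF : ∀ a : T, F (MonoidAlgebra.of ℤ T a) = act a := fun a => MonoidAlgebra.lift_of _ _
  let θ : Fin m → T := fun k => ⟨γ ^ (k : ℕ) * τ * (γ ^ (k : ℕ))⁻¹, hθ k τ hτ⟩
  obtain ⟨V1, V2⟩ := vandermonde_zero F (fun k : Fin m => MonoidAlgebra.of ℤ T (θ k))
    fun a b hab w hw => by
      rw [map_sub, hF, hF] at hw
      have hw' : (θ a : MulAut M) (w.toMul : M₁) = (θ b : MulAut M) (w.toMul : M₁) :=
        congrArg (fun z : Additive M₁ => ((z.toMul : M₁) : M)) (sub_eq_zero.1 hw)
      refine congrArg Additive.ofMul (Subtype.ext (hfree _ (mul_mem (inv_mem (θ b).2) (θ a).2)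
        ?_ _ w.toMul.2 ?_) : w.toMul = 1)
      · intro hmem
        refine hdist a b a.2 b.2 (fun e => hab (Fin.ext e)) ?_
        have e : ((θ b : MulAut M))⁻¹ * θ a = (θ a : MulAut M) * (θ b : MulAut M)⁻¹ :=
          hTc _ (inv_mem (θ b).2) _ (θ a).2
        rw [← e]
        exact hmem
      · rw [MulAut.mul_apply, hw', MulAut.inv_apply_self]
  have hFpow : ∀ (k : Fin m) (n : ℕ) (z : Additive M₁),
      ((F (MonoidAlgebra.of ℤ T (θ k) ^ n) z).toMul : M) =
        (γ ^ (k : ℕ) * τ ^ n * (γ ^ (k : ℕ))⁻¹) (z.toMul : M₁) := by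
    intro k n z
    rw [← map_pow (MonoidAlgebra.of ℤ T), hF]
    change ((θ k ^ n : T) : MulAut M) _ = _
    rw [SubmonoidClass.coe_pow, conj_pow]
  set C₁ := {x : M // x ∈ M₁ ∧ γ x = x} with hC₁
  have hcard1 : Nat.card C₁ ^ m ≤ Nat.card M₁ := by
    rw [show Nat.card C₁ ^ m = Nat.card (Fin m → C₁) by
      rw [Nat.card_fun, Nat.card_eq_fintype_card (α := Fin m), Fintype.card_fin]]
    have hτM : ∀ n : ℕ, ∀ x ∈ M₁, (τ ^ n) x ∈ M₁ := fun n x hx => hTM _ (T.pow_mem hτ n) x hx
    refine Nat.card_le_card_of_injective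
      (fun f => (⟨∏ i : Fin m, (τ ^ (i : ℕ)) (f i : M), prod_mem fun i _ => hτM i _ (f i).2.1⟩ : M₁)) ?_
    intro f f' hff
    have heq : ∏ i : Fin m, (τ ^ (i : ℕ)) ((f i : M) * (f' i : M)⁻¹) = 1 := by
      simp only [map_mul, map_inv, Finset.prod_mul_distrib, Finset.prod_inv_distrib]
      rw [show ∏ i : Fin m, (τ ^ (i : ℕ)) (f i : M) = ∏ i : Fin m, (τ ^ (i : ℕ)) (f' i : M) from
        congrArg Subtype.val hff, mul_inv_cancel]
    have hz := V1 (fun i => Additive.ofMul
      (⟨(f i : M) * (f' i : M)⁻¹, mul_mem (f i).2.1 (inv_mem (f' i).2.1)⟩ : M₁)) fun k => by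
      apply Additive.toMul.injective
      apply Subtype.ext
      rw [toMul_sum, Subgroup.val_finsetProd]
      have hγfix : ∀ n : ℕ, ∀ z : M, γ z = z → ((γ ^ n)⁻¹) z = z := by
        intro n z hz
        have h1 : γ ∈ MulAction.stabilizer (MulAut M) z := hz
        exact inv_mem (_root_.pow_mem h1 n)
      rw [Finset.prod_congr rfl fun (i : Fin m) _ => hFpow k i _]
      simp only [MulAut.mul_apply, toMul_ofMul]
      rw [Finset.prod_congr rfl fun (i : Fin m) _ => by
        rw [hγfix k _ (by rw [map_mul, map_inv, (f i).2.2, (f' i).2.2])], ← map_prod, heq, map_one]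
      rfl
    funext i
    exact Subtype.ext (mul_inv_eq_one.1 (congrArg Subtype.val
      (Additive.ofMul.injective (hz i) : (⟨_, _⟩ : M₁) = 1)))
  have hcard2 : 2 ≤ Nat.card C₁ := by
    by_contra hlt
    have hsub : ∀ z ∈ M₁, γ z = z → z = 1 := by
      intro z hz hzγ
      haveI : Subsingleton C₁ := Finite.card_le_one_iff_subsingleton.1 (by omega)
      exact congrArg Subtype.val
        (Subsingleton.elim (⟨z, hz, hzγ⟩ : C₁) ⟨1, one_mem _, map_one γ⟩)
    obtain ⟨x, hx, hx1⟩ := hM₁ne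
    refine hx1 ?_
    have hpm : ∀ k : ℕ, ∀ z ∈ M₁, (γ ^ k) z ∈ M₁ := pow_mem hγM
    have hz := V2 (fun k => Additive.ofMul (⟨(γ ^ (k : ℕ)) x, hpm k x hx⟩ : M₁)) fun i => by
      apply Additive.toMul.injective
      apply Subtype.ext
      rw [toMul_sum, Subgroup.val_finsetProd, Finset.prod_congr rfl fun (k : Fin m) _ => hFpow k i _]
      change ∏ k : Fin m, (γ ^ (k : ℕ) * τ ^ (i : ℕ) * (γ ^ (k : ℕ))⁻¹) ((γ ^ (k : ℕ)) x) = 1
      simp only [MulAut.mul_apply, MulAut.inv_apply_self]
      rw [Fin.prod_univ_eq_prod_range (fun k => (γ ^ k) ((τ ^ (i : ℕ)) x)) m]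
      refine hsub _ (prod_mem fun k _ => hpm k _ (hTM _ (T.pow_mem hτ _) x hx)) ?_
      refine S.γ_sum _ (fun k => ?_) ?_
      · rw [← MulAut.mul_apply, ← pow_succ']
      · rw [S.hγ, pow_zero]
    have := congrArg Subtype.val (Additive.ofMul.injective (hz ⟨0, S.hm.pos⟩) :
      (⟨_, hpm 0 x hx⟩ : M₁) = 1)
    simpa using this
  exact not_square_bound S.hm hcard2 hcard1 hle hd

/-- An automorphism commuting with a fixed-point-free `γ` and preserving the pairing, of order prime
to `m`, is trivial. -/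
theorem eq_one_of_commute {q : ℕ} (hq : q.Prime) (hMq : IsPGroup q M) (hfpf : ∀ x, γ x = x → x = 1)
    (hγe : ∀ x y, S.e (γ x) (γ y) = S.e x y) (τ : MulAut M) (hτγ : γ * τ = τ * γ)
    (hτe : ∀ x y, S.e (τ x) (τ y) = S.e x y) (hτm : (orderOf τ).Coprime m) : τ = 1 := by
  classical
  haveI := Fact.mk hq
  haveI := Fact.mk S.hm
  rcases subsingleton_or_nontrivial M with hs | hs
  · exact MulEquiv.ext fun x => Subsingleton.elim _ _
  have hγ1 : γ ≠ 1 := fun h => by
    obtain ⟨x, hx⟩ := exists_ne (1 : M)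
    exact hx (hfpf x (by rw [h]; rfl))
  set Γ := Subgroup.zpowers γ
  haveI : Finite (MulAut M) := Finite.of_injective (fun g : MulAut M => (g : M → M))
    DFunLike.coe_injective
  have hΓ : IsPGroup m Γ := IsPGroup.of_card (n := 1)
    (by rw [Nat.card_zpowers, S.orderγ hγ1, pow_one])
  have hmod : ∀ N : Subgroup M, (∀ x ∈ N, γ x ∈ N) → Nat.card N ≡ 1 [MOD m] := by
    intro N hN
    have hΓN : ∀ g : Γ, ∀ x ∈ N, (g : MulAut M) x ∈ N := by
      rintro ⟨g, hg⟩ x hx
      obtain ⟨n, rfl⟩ := (isOfFinOrder_of_finite γ).mem_powers_iff_mem_zpowers.2 hg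
      exact pow_mem hN n x hx
    letI : MulAction Γ N :=
      { smul := fun g x => ⟨(g : MulAut M) x, hΓN g x x.2⟩
        one_smul := fun x => rfl
        mul_smul := fun g h x => rfl }
    have h := hΓ.card_modEq_card_fixedPoints N
    have h1 : Nat.card (MulAction.fixedPoints Γ N) = 1 := by
      rw [Nat.card_eq_one_iff_exists]
      refine ⟨⟨1, fun g => Subtype.ext (map_one (g : MulAut M))⟩, fun x => Subtype.ext (Subtype.ext ?_)⟩
      exact hfpf _ (congrArg Subtype.val (x.2 ⟨γ, Subgroup.mem_zpowers γ⟩))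
    rwa [h1] at h
  obtain ⟨d, hd, hle⟩ := S.hbound ⊤ (fun x _ => trivial)
    (fun x _ h => S.nondeg x fun y => h y trivial)
  rw [Subgroup.card_top] at hd hle
  have hone : Nat.card {x : M // x ∈ (⊤ : Subgroup M) ∧ γ x = x} = 1 := by
    rw [Nat.card_eq_one_iff_exists]
    exact ⟨⟨1, trivial, map_one γ⟩, fun x => Subtype.ext (hfpf _ x.2.2)⟩
  rw [hone, mul_one, hd] at hle
  have hd2 : 2 ≤ d := by
    by_contra h
    have h1 : Nat.card M ≤ 1 := by rw [hd]; nlinarith
    exact not_subsingleton M (Finite.card_le_one_iff_subsingleton.1 h1)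
  have hdm : d ≤ m - 1 := Nat.pow_le_pow_iff_left two_ne_zero |>.1 hle
  have hm2 := S.hm.two_le
  have hd1 : d + 1 = m := by
    have h1 := hmod ⊤ fun x _ => trivial
    rw [Subgroup.card_top, hd] at h1
    have h2 : m ∣ (d + 1) * (d - 1) := by
      have := (Nat.modEq_iff_dvd' (Nat.one_le_pow 2 d (by omega))).1 h1.symm
      rwa [show 1 = 1 ^ 2 by norm_num, Nat.sq_sub_sq] at this
    rcases S.hm.dvd_mul.1 h2 with h | h
    · have := Nat.le_of_dvd (by omega) h
      omega
    · have := Nat.le_of_dvd (by omega) h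
      omega
  have hirr : ∀ N : Subgroup M, (∀ x ∈ N, γ x ∈ N) → N = ⊥ ∨ N = ⊤ := by
    intro N hN
    by_contra h
    push Not at h
    have h1 : m + 1 ≤ Nat.card N := by
      have hlt := N.one_lt_card_iff_ne_bot.2 h.1
      have := Nat.le_of_dvd (by omega) ((Nat.modEq_iff_dvd' hlt.le).1 (hmod N hN).symm)
      omega
    have h2 : m + 1 ≤ N.index := by
      have hlt : 1 < N.index := lt_of_le_of_ne (Nat.pos_of_ne_zero N.index_ne_zero_of_finite)
        fun e => h.2 (Subgroup.index_eq_one.1 e.symm)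
      have hidx : N.index ≡ 1 [MOD m] := by
        have e1 : Nat.card N * N.index ≡ 1 * 1 [MOD m] := by
          have := hmod ⊤ fun x _ => trivial
          rwa [Subgroup.card_top, ← N.card_mul_index] at this
        calc N.index = 1 * N.index := (one_mul _).symm
          _ ≡ Nat.card N * N.index [MOD m] := (hmod N hN).symm.mul_right _
          _ ≡ 1 [MOD m] := e1
      have := Nat.le_of_dvd (by omega) ((Nat.modEq_iff_dvd' hlt.le).1 hidx.symm)
      omega
    have := Nat.mul_le_mul h1 h2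
    rw [N.card_mul_index, hd] at this
    nlinarith
  obtain ⟨n, hn⟩ : ∃ n, d = q ^ n := by
    obtain ⟨a, ha⟩ := IsPGroup.iff_card.1 hMq
    obtain ⟨n, -, hn⟩ := (Nat.dvd_prime_pow hq).1 (show d ∣ q ^ a from
      ha ▸ hd ▸ dvd_pow_self d two_ne_zero)
    exact ⟨n, hn⟩
  have hexp : ∀ x : M, x ^ q = 1 := by
    intro x
    rcases hirr (powMonoidHom q : M →* M).ker (fun y hy => by
      rw [MonoidHom.mem_ker, powMonoidHom_apply] at hy ⊢
      rw [← map_pow, hy, map_one]) with h | h
    · exfalso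
      obtain ⟨a, ha⟩ := IsPGroup.iff_card.1 hMq
      have ha0 : a ≠ 0 := fun e => by
        rw [e, pow_zero] at ha
        exact not_subsingleton M (Finite.card_le_one_iff_subsingleton.1 ha.le)
      obtain ⟨y, hy⟩ := exists_prime_orderOf_dvd_card' (G := M) q (ha ▸ dvd_pow_self q ha0)
      have : y ∈ (powMonoidHom q : M →* M).ker := by
        rw [MonoidHom.mem_ker, powMonoidHom_apply, ← hy, pow_orderOf_eq_one]
      rw [h, Subgroup.mem_bot] at this
      rw [this, orderOf_one] at hy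
      exact hq.one_lt.ne hy
    · exact MonoidHom.mem_ker.1 (h ▸ Subgroup.mem_top x : x ∈ (powMonoidHom q : M →* M).ker)
  haveI : Module (ZMod q) (Additive M) := AddCommGroup.zmodModule fun x => hexp x.toMul
  let lift : MulAut M →* Module.End (ZMod q) (Additive M) :=
    { toFun := fun g => AddMonoidHom.toZModLinearMap q (MonoidHom.toAdditive g.toMonoidHom)
      map_one' := rfl
      map_mul' := fun _ _ => rfl }
  set g := lift γ with hg
  obtain ⟨x₀, hx₀⟩ := exists_ne (1 : M)
  let ev : Polynomial (ZMod q) →ₗ[ZMod q] Additive M :=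
    (LinearMap.applyₗ (Additive.ofMul x₀)).comp (Polynomial.aeval g).toLinearMap
  have hev : ∀ P, ev P = Polynomial.aeval g P (Additive.ofMul x₀) := fun P => rfl
  have hsurj : Function.Surjective ev := by
    rw [← LinearMap.range_eq_top]
    rcases hirr (AddSubgroup.toSubgroup' (LinearMap.range ev).toAddSubgroup) (by
      intro y hy
      obtain ⟨P, hP⟩ : ∃ P, ev P = Additive.ofMul y := hy
      refine ⟨Polynomial.X * P, ?_⟩
      rw [hev, map_mul, Polynomial.aeval_X, Module.End.mul_apply, ← hev, hP]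
      rfl) with h | h
    · exfalso
      have : x₀ ∈ AddSubgroup.toSubgroup' (LinearMap.range ev).toAddSubgroup :=
        ⟨1, by rw [hev, map_one]; rfl⟩
      rw [h, Subgroup.mem_bot] at this
      exact hx₀ this
    · rw [eq_top_iff]
      intro y _
      exact (h ▸ Subgroup.mem_top y.toMul :
        y.toMul ∈ AddSubgroup.toSubgroup' (LinearMap.range ev).toAddSubgroup)
  obtain ⟨P, hP⟩ := hsurj (lift τ (Additive.ofMul x₀))
  have hτP : lift τ = Polynomial.aeval g P := by
    refine LinearMap.ext fun y => ?_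
    obtain ⟨R, rfl⟩ := hsurj y
    have hcomm : Commute (lift τ) (Polynomial.aeval g R) := by
      induction R using Polynomial.induction_on' with
      | add p r hp hr => rw [map_add]; exact hp.add_right hr
      | monomial n a =>
        rw [Polynomial.aeval_monomial]
        refine (Algebra.commute_algebraMap_right a _).mul_right (Commute.pow_right ?_ n)
        change lift τ * lift γ = lift γ * lift τ
        rw [← map_mul, ← map_mul, hτγ]
    calc lift τ (ev R) = (lift τ * Polynomial.aeval g R) (Additive.ofMul x₀) := rfl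
      _ = Polynomial.aeval g R (lift τ (Additive.ofMul x₀)) := by rw [hcomm.eq]; rfl
      _ = (Polynomial.aeval g R * Polynomial.aeval g P) (Additive.ofMul x₀) := by rw [← hP]; rfl
      _ = Polynomial.aeval g P (ev R) := by rw [← map_mul, mul_comm, map_mul]; rfl
  -- adjoints
  have hadj : ∀ (R : Polynomial (ZMod q)) (a b : Additive M),
      S.e (Polynomial.aeval g R a).toMul b.toMul =
        S.e a.toMul (Polynomial.aeval (g ^ d) R b).toMul := by
    intro R
    induction R using Polynomial.induction_on' with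
    | add p r hp hr =>
      intro a b
      rw [map_add, map_add, LinearMap.add_apply, LinearMap.add_apply, toMul_add, toMul_add, map_mul,
        MonoidHom.mul_apply, map_mul, hp, hr]
    | monomial k c =>
      intro a b
      rw [Polynomial.aeval_monomial, Polynomial.aeval_monomial, Module.End.mul_apply,
        Module.End.mul_apply, Module.algebraMap_end_apply, Module.algebraMap_end_apply]
      have hsm : ∀ z : Additive M, c • z = c.val • z := fun z => by
        rw [← Nat.cast_smul_eq_nsmul (ZMod q), ZMod.natCast_zmod_val]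
      rw [hsm, hsm, toMul_nsmul, toMul_nsmul, map_pow, MonoidHom.pow_apply, map_pow]
      congr 1
      have hk : ∀ j : ℕ, ∀ x y, S.e ((γ ^ j) x) y = S.e x ((γ ^ (d * j)) y) := by
        intro j x y
        have hinv : ∀ i : ℕ, ∀ x y, S.e ((γ ^ i) x) ((γ ^ i) y) = S.e x y := by
          intro i
          induction i with
          | zero => intro x y; simp
          | succ i ih => intro x y; rw [pow_succ', MulAut.mul_apply, MulAut.mul_apply, hγe, ih]
        conv_rhs => rw [← hinv j x, ← MulAut.mul_apply, ← pow_add, show j + d * j = m * j by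
          rw [← hd1]; ring, pow_mul, S.hγ, one_pow, MulAut.one_apply]
      have e1 : ∀ j, g ^ j = lift (γ ^ j) := fun j => (map_pow lift γ j).symm
      rw [← pow_mul, e1, e1]
      exact hk k a.toMul b.toMul
  have hfrob : Polynomial.aeval (g ^ d) P = (lift τ) ^ d := by
    have hexpand : ∀ j : ℕ, Polynomial.expand (ZMod q) (q ^ j) P = P ^ (q ^ j) := by
      intro j
      induction j with
      | zero => simp
      | succ j ih =>
        rw [pow_succ', ← Polynomial.expand_expand, ih, map_pow, ZMod.expand_card, ← pow_mul]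
    rw [hτP, ← map_pow (Polynomial.aeval g), hn, ← hexpand, Polynomial.expand_aeval]
  have hkey : τ ^ (d + 1) = 1 := by
    refine MulEquiv.ext fun v => mul_inv_eq_one.1 ?_
    refine S.nondeg _ fun u => ?_
    rw [S.anti, inv_eq_one]
    have h1 := hadj P (Additive.ofMul u) (Additive.ofMul (τ v))
    rw [← hτP, hfrob, ← map_pow lift] at h1
    have h2 : S.e (τ u) (τ v) = S.e u ((τ ^ d) (τ v)) := h1
    rw [hτe] at h2
    rw [map_mul, map_inv, MulAut.one_apply, pow_succ, MulAut.mul_apply, ← h2, mul_inv_cancel]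
  exact eq_one_of_pow_coprime hτm (hd1 ▸ hkey)

end Symp

end Cfsg.Agent.PqFpf
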