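import Cfsg.Agent.Lib.FiniteGroup.PqFpf.Abelian
import Cfsg.Agent.Lib.FiniteGroup.PqFpf.Bound
import Cfsg.Agent.Lib.FiniteGroup.PqFpf.Symp

/-!
The configuration with a non-abelian normal subgroup is impossible.
-/

set_option autoImplicit false
set_option linter.style.haveILetI false
set_option linter.unusedSectionVars false

namespace Cfsg.Agent.PqFpf

open scoped commutatorElement BigOperators
open OpFpf

variable {A H : Type*} [Group A] [Group H] {W : Type*} [AddCommGroup W] {ψ : A →* MulAut H}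

/-- A subgroup stable under an operator is stable under its powers. -/
theorem inv_zpowers [Finite A] {c : A} {K : Subgroup H} (h : ∀ x ∈ K, ψ c x ∈ K) :
    Inv (ψ.comp (Subgroup.zpowers c).subtype) K := by
  rintro ⟨a, ha⟩
  obtain ⟨k, rfl⟩ := (isOfFinOrder_of_finite c).mem_powers_iff_mem_zpowers.2 ha
  change ∀ x ∈ K, ψ (c ^ k) x ∈ K
  induction k with
  | zero => intro x hx; rwa [pow_zero, act_one]
  | succ k ih => intro x hx; rw [pow_succ, act_mul]; exact ih (Subgroup.npow_mem_zpowers c k) _ (h x hx)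

/-- An operator as an automorphism of a stable subgroup. -/
def powAut [Finite A] (ψ : A →* MulAut H) {c : A} {K : Subgroup H} (h : ∀ x ∈ K, ψ c x ∈ K) :
    MulAut K :=
  restrict (ψ.comp (Subgroup.zpowers c).subtype) K (inv_zpowers h) ⟨c, Subgroup.mem_zpowers c⟩

theorem powAut_apply [Finite A] {c : A} {K : Subgroup H} (h : ∀ x ∈ K, ψ c x ∈ K) (x : K) :
    ((powAut ψ h x : K) : H) = ψ c x := rfl

theorem powAut_pow [Finite A] {c : A} {K : Subgroup H} (h : ∀ x ∈ K, ψ c x ∈ K) :
    powAut ψ h ^ orderOf c = 1 := by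
  rw [powAut, ← map_pow]
  have e : (⟨c, Subgroup.mem_zpowers c⟩ : Subgroup.zpowers c) ^ orderOf c = 1 :=
    Subtype.ext (pow_orderOf_eq_one c)
  rw [e, map_one]

namespace IsPq

variable {R : Rep ψ W} {p m s t ℓ : ℕ} {f : A} {Q T : Subgroup H} (F : IsPq R p m s t ℓ f Q T)

include F

/-- The case of a non-abelian `Q`. -/
theorem false_of_nonabelian [Nontrivial W] (hD : ⁅Q, Q⁆ ≠ ⊥) : False := by
  classical
  haveI := R.finA
  haveI := R.finH
  haveI := R.finW
  haveI := F.pair.Qn
  haveI := Fact.mk F.pair.hq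
  haveI := Fact.mk F.pair.hr
  haveI : Group.IsNilpotent Q := F.pair.Qp.isNilpotent
  haveI : Nontrivial (⁅Q, Q⁆ : Subgroup H) := (Subgroup.nontrivial_iff_ne_bot _).2 hD
  set D := ⁅Q, Q⁆ with hDdef
  have hDQ : D ≤ Q := Subgroup.commutator_le_left Q Q
  have hDn : D.Normal := inferInstance
  have hDi : Inv ψ D := inv_commutator ψ F.pair.Qi F.pair.Qi
  have hcent : ∀ z ∈ D, ∀ h : H, h * z = z * h := fun z hz h => F.pair.commutator_central hz h
  have hconj : ∀ z ∈ D, ∀ h : H, h * z * h⁻¹ = z := fun z hz h => by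
    rw [hcent z hz h, mul_inv_cancel_right]
  have hDc : ∀ x ∈ D, ∀ y ∈ D, x * y = y * x := fun x hx y _ => (hcent x hx y).symm
  have hcm : ∀ a ∈ Q, ∀ b ∈ Q, ⁅a, b⁆ ∈ D := fun a ha b hb =>
    Subgroup.commutator_mem_commutator ha hb
  have hbilr : ∀ a ∈ Q, ∀ b ∈ Q, ∀ c ∈ Q, ⁅a, b * c⁆ = ⁅a, b⁆ * ⁅a, c⁆ := fun a ha b _ c hc => by
    rw [← hconj _ (hcm a ha c hc) b]
    simp only [commutatorElement_def]
    group
  have hbill : ∀ a ∈ Q, ∀ b ∈ Q, ∀ c ∈ Q, ⁅a * b, c⁆ = ⁅a, c⁆ * ⁅b, c⁆ := fun a ha b hb c hc => by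
    rw [hcent _ (hcm b hb c hc) ⁅a, c⁆, ← hconj _ (hcm b hb c hc) a]
    simp only [commutatorElement_def]
    group
  obtain ⟨B, hB⟩ := R.exists_max (N := D)
  have hBn : ∀ h, mp (MulAut.conj h) B = B := fun h => by
    ext x
    constructor
    · rintro ⟨y, hy, rfl⟩
      change h * y * h⁻¹ ∈ B
      rwa [hconj y (hB.1 hy) h]
    · exact fun hx => ⟨x, hx, hconj x (hB.1 hx) h⟩
  have hUH : ∀ h, ∀ v ∈ R.fix B, R.ρ h v ∈ R.fix B := fun h v hv g hg => by
    rw [R.mem_stab, ← R.ρmul, ← hcent g (hB.1 hg) h, R.ρmul, R.mem_fix.1 hv g hg]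
  have hord : ∀ x ∈ Q, (orderOf x).Coprime (Nat.card W) := fun x hx =>
    F.pair.Qcop.coprime_dvd_left (Subgroup.orderOf_dvd_natCard Q hx)
  -- an operator of prime order without fixed vectors on the component
  obtain ⟨c, hc1, hcB, hcf, h0, hctriv⟩ : ∃ c, c ≠ 1 ∧ c ∈ opStab ψ B ∧
      (c = f ∨ c ∉ Subgroup.zpowers f) ∧ (∀ v ∈ R.fix B, R.σ c v = v → v = 0) ∧
      ∀ z ∈ D, z * (ψ c z)⁻¹ ∈ B := by
    rcases F.stab_cases hDn hDi hDc hB with htop | ⟨c, hc1, hcB, hcf, -, h0⟩
    swap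
    · exact ⟨c, hc1, hcB, hcf, h0, fun z hz => F.triv_of_proper hDn hDi hDc hB hc1 hcB h0 hz⟩
    have hbot : B = ⊥ :=
      R.eq_bot_of_stable hB hBn fun a => mem_opStab.1 (htop ▸ Subgroup.mem_top a)
    have hf : f ∈ opStab ψ B := htop ▸ Subgroup.mem_top f
    have hft := F.f_triv hDn hDi hDc hB hf
    refine ⟨f, F.f_ne, hf, Or.inl rfl, fun v hv hfv => ?_, hft⟩
    obtain ⟨⟨z, hz⟩, hz1⟩ := exists_ne (1 : D)
    have hfz : ψ f z = z := by
      have h := hft z hz
      rw [hbot, Subgroup.mem_bot, mul_inv_eq_one] at h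
      exact h.symm
    refine R.eq_zero_of_fixed hB hz (fun h => hz1 ?_) hv (F.centr z v hfz (hord z (hDQ hz)) hfv)
    rw [hbot, Subgroup.mem_bot] at h
    exact Subtype.ext h
  have hcU : ∀ v ∈ R.fix B, R.σ c v ∈ R.fix B := fun v hv => mem_opStab.1 hcB ▸ R.fix_act c hv
  -- the radical
  let Rad : Subgroup H :=
    { carrier := {y | y ∈ Q ∧ ∀ a ∈ Q, ⁅a, y⁆ ∈ B}
      one_mem' := ⟨one_mem Q, fun a _ => by simp [commutatorElement_def]⟩
      mul_mem' := fun {x y} hx hy => ⟨mul_mem hx.1 hy.1, fun a ha => by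
        rw [hbilr a ha x hx.1 y hy.1]
        exact mul_mem (hx.2 a ha) (hy.2 a ha)⟩
      inv_mem' := fun {x} hx => ⟨inv_mem hx.1, fun a ha => by
        have h := hbilr a ha x hx.1 x⁻¹ (inv_mem hx.1)
        rw [mul_inv_cancel, commutatorElement_one_right] at h
        rw [eq_inv_of_mul_eq_one_right h.symm]
        exact inv_mem (hx.2 a ha)⟩ }
  have hRQ : Rad ≤ Q := fun y hy => hy.1
  haveI hRn : Rad.Normal := ⟨fun y hy h => ⟨F.pair.Qn.conj_mem y hy.1 h, fun a ha => by
    have ha' : h⁻¹ * a * h ∈ Q := by simpa using F.pair.Qn.conj_mem a ha h⁻¹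
    have e : ⁅a, h * y * h⁻¹⁆ = h * ⁅h⁻¹ * a * h, y⁆ * h⁻¹ := by
      simp only [commutatorElement_def]
      group
    rw [e, hconj _ (hcm _ ha' _ hy.1)]
    exact hy.2 _ ha'⟩⟩
  have hDR : D ≤ Rad := fun z hz => ⟨hDQ hz, fun a _ => by
    rw [commutatorElement_def, hconj z hz a, mul_inv_cancel]
    exact one_mem B⟩
  have hRc : ∀ x ∈ Rad, ψ c x ∈ Rad := fun x hx => ⟨F.pair.Qi c x hx.1, fun a ha => by
    have h := mem_of_mp_eq (mem_opStab.1 hcB) (hx.2 _ (F.pair.Qi c⁻¹ a ha))
    rwa [map_commutatorElement, act_act_inv] at h⟩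
  set M := Q ⧸ Rad.subgroupOf Q
  haveI : (Rad.subgroupOf Q).Normal := Subgroup.normal_subgroupOf
  letI : CommGroup M :=
    { (inferInstance : Group M) with
      mul_comm := fun x y => by
        induction x using QuotientGroup.induction_on with
        | H a =>
          induction y using QuotientGroup.induction_on with
          | H b =>
            rw [← commutatorElement_eq_one_iff_mul_comm,
              show ⁅(a : M), (b : M)⁆ = ((⁅a, b⁆ : Q) : M) from
                (map_commutatorElement (QuotientGroup.mk' _) a b).symm,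
              QuotientGroup.eq_one_iff]
            exact hDR (hcm a a.2 b b.2) }
  letI : CommGroup D :=
    { (inferInstance : Group D) with mul_comm := fun x y => Subtype.ext (hDc x x.2 y y.2) }
  -- the pairing
  let cb : Q → Q → D ⧸ B.subgroupOf D := fun a b =>
    QuotientGroup.mk (⟨⁅(a : H), (b : H)⁆, hcm a a.2 b b.2⟩ : D)
  have hcb : ∀ a b : Q, cb a b = 1 ↔ ⁅(a : H), (b : H)⁆ ∈ B := fun a b =>
    QuotientGroup.eq_one_iff _
  let er : Q → M →* D ⧸ B.subgroupOf D := fun a =>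
    QuotientGroup.lift (Rad.subgroupOf Q)
      { toFun := cb a
        map_one' := (hcb a 1).2 (by simp [commutatorElement_def])
        map_mul' := fun b b' => congrArg QuotientGroup.mk
          (Subtype.ext (hbilr a a.2 b b.2 b' b'.2) :
            (⟨⁅(a : H), ((b * b' : Q) : H)⁆, _⟩ : D) = ⟨_, _⟩ * ⟨_, _⟩) }
      fun b hb => (hcb a b).2 (hb.2 a a.2)
  have her : ∀ a b : Q, er a (b : M) = cb a b := fun a b => rfl
  let e : M →* M →* D ⧸ B.subgroupOf D :=
    QuotientGroup.lift (Rad.subgroupOf Q)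
      { toFun := er
        map_one' := MonoidHom.ext fun z => QuotientGroup.induction_on z fun b => by
          rw [her, MonoidHom.one_apply]
          exact (hcb 1 b).2 (by simp [commutatorElement_def])
        map_mul' := fun a a' => MonoidHom.ext fun z => QuotientGroup.induction_on z fun b => by
          rw [MonoidHom.mul_apply, her, her, her]
          exact congrArg QuotientGroup.mk (Subtype.ext (hbill a a.2 a' a'.2 b b.2) :
            (⟨⁅((a * a' : Q) : H), (b : H)⁆, _⟩ : D) = ⟨_, _⟩ * ⟨_, _⟩) }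
      fun a ha => MonoidHom.mem_ker.2 (MonoidHom.ext fun z => QuotientGroup.induction_on z fun b => by
        change cb a b = 1
        refine (hcb a b).2 ?_
        rw [← commutatorElement_inv]
        exact inv_mem (ha.2 b b.2))
  have he : ∀ a b : Q, e (a : M) (b : M) = cb a b := fun a b => rfl
  have hnondeg : ∀ x, (∀ y, e x y = 1) → x = 1 := by
    intro x
    induction x using QuotientGroup.induction_on with
    | H a =>
      intro h
      refine (QuotientGroup.eq_one_iff a).2 ⟨a.2, fun b hb => ?_⟩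
      rw [← commutatorElement_inv]
      exact inv_mem ((hcb a ⟨b, hb⟩).1 (h ((⟨b, hb⟩ : Q) : M)))
  -- the operator on `M`
  set γ₀ : MulAut Q := powAut ψ (fun x hx => F.pair.Qi c x hx) with hγ₀
  have hγR : (Rad.subgroupOf Q).map (γ₀ : Q →* Q) = Rad.subgroupOf Q := by
    refine Subgroup.eq_of_le_of_card_ge ?_ (Subgroup.card_map_of_injective γ₀.injective).ge
    rintro _ ⟨x, hx, rfl⟩
    exact hRc (x : H) hx
  let γ : MulAut M := QuotientGroup.congr _ _ γ₀ hγR
  have hγ : ∀ a : Q, γ (a : M) = ((γ₀ a : Q) : M) := fun a => rfl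
  have hγpow : γ ^ orderOf c = 1 := by
    have h : ∀ n : ℕ, ∀ a : Q, (γ ^ n) (a : M) = (((γ₀ ^ n) a : Q) : M) := by
      intro n
      induction n with
      | zero => intro a; rfl
      | succ n ih =>
        intro a
        rw [pow_succ', MulAut.mul_apply, ih, hγ, pow_succ' γ₀, MulAut.mul_apply]
    refine MulEquiv.ext fun z => QuotientGroup.induction_on z fun a => ?_
    rw [h, hγ₀, powAut_pow]
    rfl
  have hγe : ∀ x y, e (γ x) (γ y) = e x y := by
    intro x y
    induction x using QuotientGroup.induction_on with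
    | H a =>
      induction y using QuotientGroup.induction_on with
      | H b =>
        rw [hγ, hγ, he, he]
        refine QuotientGroup.eq.2 ?_
        change (⁅(γ₀ a : H), (γ₀ b : H)⁆)⁻¹ * ⁅(a : H), (b : H)⁆ ∈ B
        rw [hγ₀, powAut_apply, powAut_apply, ← map_commutatorElement]
        have h := hctriv _ (hcm a a.2 b b.2)
        rwa [hcent _ (hcm a a.2 b b.2) (ψ c ⁅(a : H), (b : H)⁆)⁻¹]
  -- on an isotropic stable subgroup the operator acts trivially
  have hisoAct : ∀ N : Subgroup M, (∀ x ∈ N, γ x ∈ N) → (∀ x ∈ N, ∀ y ∈ N, e x y = 1) →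
      ∀ a : Q, (a : M) ∈ N → ∀ u ∈ R.fix B, R.ρ ((a : H) * (ψ c a)⁻¹) u = u := by
    intro N hNγ hNiso a ha u hu
    set E := (N.comap (QuotientGroup.mk' (Rad.subgroupOf Q))).map Q.subtype with hE
    refine act_fix_comm R (F.prime_order hc1) rfl (E := E) ?_
      (F.pair.Qcop.coprime_dvd_left (Subgroup.card_dvd_of_le (Subgroup.map_subtype_le _)))
      hcU (fun x _ v hv => hUH x v hv) ?_ h0 ⟨a, ha, rfl⟩ hu
    · rintro _ ⟨x, hx, rfl⟩
      exact ⟨γ₀ x, hNγ _ hx, rfl⟩
    · rintro _ ⟨x, hx, rfl⟩ _ ⟨y, hy, rfl⟩ v hv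
      have h1 : ⁅(x : H), (y : H)⁆ ∈ B := (hcb x y).1 (hNiso _ hx _ hy)
      change R.ρ (x : H) (R.ρ (y : H) v) = R.ρ (y : H) (R.ρ (x : H) v)
      rw [← R.ρmul, ← R.ρmul,
        show (x : H) * y = ⁅(x : H), (y : H)⁆ * (y * x) by rw [commutatorElement_def]; group,
        R.ρmul, R.mem_fix.1 (hUH _ v hv) _ h1]
  have hiso : ∀ N : Subgroup M, (∀ x ∈ N, γ x ∈ N) → (∀ x ∈ N, ∀ y ∈ N, e x y = 1) →
      ∀ x ∈ N, γ x = x := by
    intro N hNγ hNiso x
    induction x using QuotientGroup.induction_on with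
    | H a =>
      intro ha
      have htr := hisoAct N hNγ hNiso a ha
      set z := (a : H) * (ψ c a)⁻¹ with hz
      have hzQ : z ∈ Q := mul_mem a.2 (inv_mem (F.pair.Qi c a a.2))
      have hzR : z ∈ Rad := by
        refine ⟨hzQ, fun b hb => R.mem_of_fix_all hB (hcm b hb z hzQ) fun u hu => ?_⟩
        have hzinv : ∀ v ∈ R.fix B, R.ρ z⁻¹ v = v := fun v hv => by
          conv_lhs => arg 2; rw [← htr v hv]
          exact R.ρinv z v
        rw [commutatorElement_def, R.ρmul, hzinv u hu, R.ρmul, R.ρmul,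
          htr _ (hUH _ u hu), ← R.ρmul, mul_inv_cancel, R.ρone]
      rw [hγ]
      refine (QuotientGroup.eq.2 ?_)
      change (γ₀ a : H)⁻¹ * (a : H) ∈ Rad
      rw [hγ₀, powAut_apply]
      have := hRn.conj_mem z hzR (ψ c a)⁻¹
      simpa [hz, mul_assoc] using this
  have hcℓ : orderOf c ≠ ℓ := by
    intro h
    obtain ⟨v, hv⟩ := exists_ne (0 : W)
    have h1 : ℓ ∣ Nat.card W := by
      haveI := Fact.mk F.hℓ
      rw [← addOrderOf_eq_prime (F.expW v) hv]
      exact addOrderOf_dvd_natCard v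
    have h2 := Nat.eq_one_of_dvd_coprimes R.copA (h ▸ orderOf_dvd_natCard c) h1
    exact F.hℓ.ne_one h2
  have hQℓ : ¬ ℓ ∣ Nat.card Q := fun h => by
    obtain ⟨v, hv⟩ := exists_ne (0 : W)
    haveI := Fact.mk F.hℓ
    have h1 : ℓ ∣ Nat.card W := by
      rw [← addOrderOf_eq_prime (F.expW v) hv]
      exact addOrderOf_dvd_natCard v
    exact F.hℓ.ne_one (Nat.eq_one_of_dvd_coprimes F.pair.Qcop h h1)
  have hbound : ∀ N : Subgroup M, (∀ x ∈ N, γ x ∈ N) →
      (∀ x ∈ N, (∀ y ∈ N, e x y = 1) → x = 1) →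
      ∃ d, Nat.card N = d ^ 2 ∧
        Nat.card N ≤ (orderOf c - 1) ^ 2 * Nat.card {x : M // x ∈ N ∧ γ x = x} := by
    intro N hNγ hNnd
    set Q₁ := (N.comap (QuotientGroup.mk' (Rad.subgroupOf Q))).map Q.subtype with hQ₁
    have hQ₁Q : Q₁ ≤ Q := Subgroup.map_subtype_le _
    have hQ₁N : ∀ x : Q₁, ((⟨x, hQ₁Q x.2⟩ : Q) : M) ∈ N := by
      rintro ⟨_, a, ha, rfl⟩
      exact ha
    have hQ₁c : ∀ x ∈ Q₁, ψ c x ∈ Q₁ := by
      rintro _ ⟨a, ha, rfl⟩
      exact ⟨γ₀ a, hNγ _ ha, rfl⟩
    set ψ₁ := powAut ψ hQ₁c with hψ₁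
    set Rad₁ := Rad.subgroupOf Q₁ with hRad₁
    haveI : Rad₁.Normal := Subgroup.normal_subgroupOf
    haveI : Nontrivial (R.fix B) := (AddSubgroup.nontrivial_iff_ne_bot _).2 hB.2.1
    let ρ₁ : Q₁ →* AddMonoid.End (R.fix B) :=
      { toFun := fun x =>
          { toFun := fun v => ⟨R.ρ (x : H) v, hUH x v v.2⟩
            map_zero' := Subtype.ext (map_zero _)
            map_add' := fun u v => Subtype.ext (map_add _ _ _) }
        map_one' := AddMonoidHom.ext fun v => Subtype.ext (R.ρone v)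
        map_mul' := fun x y => AddMonoidHom.ext fun v => Subtype.ext (R.ρmul x y v) }
    let σ₁ : AddMonoid.End (R.fix B) :=
      { toFun := fun v => ⟨R.σ c v, hcU v v.2⟩
        map_zero' := Subtype.ext (map_zero _)
        map_add' := fun u v => Subtype.ext (map_add _ _ _) }
    have hρ₁ : ∀ (x : Q₁) (v : R.fix B), ((ρ₁ x v : R.fix B) : W) = R.ρ (x : H) v := fun _ _ => rfl
    have hσ₁ : σ₁ ^ orderOf c = 1 := by
      have h : ∀ n : ℕ, ∀ v : R.fix B, (((σ₁ ^ n) v : R.fix B) : W) = R.σ (c ^ n) v := by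
        intro n
        induction n with
        | zero => intro v; rw [pow_zero, pow_zero, R.σone]; rfl
        | succ n ih =>
          intro v
          rw [pow_succ', pow_succ' c, R.σmul, ← ih]
          rfl
      refine AddMonoidHom.ext fun v => Subtype.ext ?_
      exact (h _ v).trans (by rw [pow_orderOf_eq_one, R.σone]; rfl)
    have hR₁ : ∀ y ∈ Rad₁, ψ₁ y ∈ Rad₁ := fun y hy => hRc (y : H) hy
    refine (fun key => ?_) (bound (ℓ := ℓ) (m := orderOf c) F.hℓ
      (fun u => Subtype.ext (F.expW u)) (F.prime_order hc1) hcℓ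
      (fun h => hQℓ (h.trans (Subgroup.card_dvd_of_le hQ₁Q))) ρ₁ σ₁ ψ₁ hσ₁ (powAut_pow hQ₁c)
      (fun x u => Subtype.ext (R.hσ c x u)) (fun u hu => Subtype.ext
        (h0 u u.2 (congrArg Subtype.val hu))) Rad₁ hR₁ ?_ ?_ ?_ ?_)
    · obtain ⟨d, hd1, hd2⟩ := key
      let g : Q₁ →* N :=
        { toFun := fun x => ⟨_, hQ₁N x⟩
          map_one' := rfl
          map_mul' := fun x y => rfl }
      have hker : Rad₁ = g.ker := by
        ext x
        rw [MonoidHom.mem_ker]
        exact ⟨fun h => Subtype.ext ((QuotientGroup.eq_one_iff _).2 h),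
          fun h => (QuotientGroup.eq_one_iff (⟨x, hQ₁Q x.2⟩ : Q)).1 (congrArg Subtype.val h)⟩
      have hgs : Function.Surjective g := by
        rintro ⟨z, hz⟩
        obtain ⟨a, rfl⟩ := QuotientGroup.mk_surjective z
        exact ⟨⟨a, a, hz, rfl⟩, rfl⟩
      let θ : Q₁ ⧸ Rad₁ ≃ N :=
        ((QuotientGroup.quotientMulEquivOfEq hker).trans
          (QuotientGroup.quotientKerEquivOfSurjective g hgs)).toEquiv
      have hθ : ∀ x : Q₁, θ (x : Q₁ ⧸ Rad₁) = g x := fun x => rfl
      have hfix : Nat.card {x : Q₁ ⧸ Rad₁ // qmap ψ₁ Rad₁ hR₁ x = x} =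
          Nat.card {x : M // x ∈ N ∧ γ x = x} := by
        refine Nat.card_congr ((θ.subtypeEquiv (q := fun z : N => γ (z : M) = (z : M)) fun x => ?_).trans
          (Equiv.subtypeSubtypeEquivSubtypeInter (fun z => z ∈ N) fun z => γ z = z))
        induction x using QuotientGroup.induction_on with
        | H b =>
          rw [← θ.apply_eq_iff_eq, Subtype.ext_iff]
          exact Iff.rfl
      rw [Nat.card_congr θ] at hd1 hd2
      rw [hfix] at hd2
      exact ⟨d, hd1, hd2⟩
    · intro y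
      constructor
      · intro hy a u
        refine Subtype.ext ?_
        rw [hρ₁]
        exact R.mem_fix.1 u.2 _ (by
          have h := hy.2 (a : H) (hQ₁Q a.2)
          exact h)
      · intro h
        refine ((QuotientGroup.eq_one_iff (⟨y, hQ₁Q y.2⟩ : Q)).1 (hNnd _ (hQ₁N y) ?_) : _)
        intro z hz
        obtain ⟨a, rfl⟩ := QuotientGroup.mk_surjective z
        rw [he, hcb, ← commutatorElement_inv]
        refine inv_mem (R.mem_of_fix_all hB (hcm _ a.2 _ (hQ₁Q y.2)) fun u hu => ?_)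
        exact congrArg Subtype.val (h ⟨a, a, hz, rfl⟩ ⟨u, hu⟩)
    · intro x a y u
      refine Subtype.ext ?_
      change R.ρ (x : H) (R.ρ ⁅(a : H), (y : H)⁆ u) = R.ρ ⁅(a : H), (y : H)⁆ (R.ρ (x : H) u)
      rw [← R.ρmul, ← R.ρmul, hcent _ (hcm _ (hQ₁Q a.2) _ (hQ₁Q y.2))]
    · intro a y u hu hu0 u'
      refine Subtype.ext ?_
      have hmem : ⁅(a : H), (y : H)⁆ ∈ B := by
        by_contra hnB
        exact hu0 (Subtype.ext (R.eq_zero_of_fixed hB (hcm _ (hQ₁Q a.2) _ (hQ₁Q y.2)) hnB u.2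
          (congrArg Subtype.val hu)))
      exact R.mem_fix.1 u'.2 _ hmem
    · intro a ha u
      refine Subtype.ext ?_
      set a' : Q := ⟨a, hQ₁Q a.2⟩ with ha'
      have hfixa : γ (a' : M) = (a' : M) := by
        rw [hγ]
        refine (QuotientGroup.eq.2 ?_).symm
        exact ha
      have h := hisoAct (Subgroup.zpowers (a' : M))
        (fun x hx => by
          obtain ⟨k, rfl⟩ := Subgroup.mem_zpowers_iff.1 hx
          rw [map_zpow, hfixa]
          exact hx)
        (fun x hx y hy => by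
          obtain ⟨i, rfl⟩ := Subgroup.mem_zpowers_iff.1 hx
          obtain ⟨j, rfl⟩ := Subgroup.mem_zpowers_iff.1 hy
          have h1 : e (a' : M) (a' : M) = 1 :=
            (he a' a').trans ((hcb a' a').2 (by simp [commutatorElement_def]))
          rw [map_zpow e, MonoidHom.zpow_apply, map_zpow, h1, one_zpow, one_zpow])
        a' (Subgroup.mem_zpowers _) (R.ρ (ψ c (a : H)) u) (hUH _ u u.2)
      rw [← R.ρmul, inv_mul_cancel_right] at h
      exact h.symm
  let S : Symp M (D ⧸ B.subgroupOf D) γ (orderOf c) :=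
    { e := e
      alt := fun x => QuotientGroup.induction_on x fun a =>
        (he a a).trans ((hcb a a).2 (by simp [commutatorElement_def]))
      nondeg := hnondeg
      hm := F.prime_order hc1
      hγ := hγpow
      hbound := hbound
      hiso := hiso }
  -- the action of `T`
  have hτR : ∀ y : T, (Rad.subgroupOf Q).map
      (MulAut.conjNormal (H := Q) (y : H) : Q →* Q) = Rad.subgroupOf Q := fun y => by
    refine Subgroup.eq_of_le_of_card_ge ?_
      (Subgroup.card_map_of_injective (MulAut.conjNormal (H := Q) (y : H)).injective).ge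
    rintro _ ⟨x, hx, rfl⟩
    exact hRn.conj_mem (x : H) hx y
  let τ : T →* MulAut M :=
    { toFun := fun y => QuotientGroup.congr _ _ (MulAut.conjNormal (H := Q) (y : H)) (hτR y)
      map_one' := MulEquiv.ext fun z => QuotientGroup.induction_on z fun a => by
        change ((MulAut.conjNormal (H := Q) ((1 : T) : H) a : Q) : M) = (a : M)
        rw [Subgroup.coe_one, map_one]
        rfl
      map_mul' := fun y y' => MulEquiv.ext fun z => QuotientGroup.induction_on z fun a => by
        change ((MulAut.conjNormal (H := Q) ((y * y' : T) : H) a : Q) : M) = _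
        rw [Subgroup.coe_mul, map_mul]
        rfl }
  have hτ : ∀ (y : T) (a : Q), τ y (a : M) =
      ((MulAut.conjNormal (H := Q) (y : H) a : Q) : M) := fun _ _ => rfl
  have hτ₀ : ∀ y : T, (y : H) ∈ F.T₀ → τ y = 1 := fun y hy =>
    MulEquiv.ext fun z => QuotientGroup.induction_on z fun a => by
      rw [hτ, MulAut.one_apply]
      refine congrArg QuotientGroup.mk (Subtype.ext ?_)
      rw [MulAut.conjNormal_apply, (F.mem_T₀.1 hy).2 _ a.2, mul_inv_cancel_right]
  have hτe : ∀ (y : T) (x z : M), e (τ y x) (τ y z) = e x z := by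
    intro y x z
    induction x using QuotientGroup.induction_on with
    | H a =>
      induction z using QuotientGroup.induction_on with
      | H b =>
        rw [hτ, hτ, he, he]
        refine congrArg QuotientGroup.mk (Subtype.ext ?_)
        change ⁅((MulAut.conjNormal (H := Q) (y : H) a : Q) : H),
          ((MulAut.conjNormal (H := Q) (y : H) b : Q) : H)⁆ = _
        rw [MulAut.conjNormal_apply, MulAut.conjNormal_apply,
          show ⁅(y : H) * a * (y : H)⁻¹, (y : H) * b * (y : H)⁻¹⁆ =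
            (y : H) * ⁅(a : H), (b : H)⁆ * (y : H)⁻¹ by simp only [commutatorElement_def]; group,
          hconj _ (hcm a a.2 b b.2)]
  have hγτ : ∀ y : T, γ * τ y = τ (restrict ψ T F.pair.Ti c y) * γ := fun y =>
    MulEquiv.ext fun z => QuotientGroup.induction_on z fun a => by
      rw [MulAut.mul_apply, MulAut.mul_apply, hτ, hγ, hγ, hτ]
      refine congrArg QuotientGroup.mk (Subtype.ext ?_)
      rw [hγ₀, powAut_apply, MulAut.conjNormal_apply, MulAut.conjNormal_apply, powAut_apply,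
        restrict_apply, map_mul, map_mul, map_inv (ψ c)]
  have hγτ' : ∀ y : T, γ * τ y * γ⁻¹ = τ (restrict ψ T F.pair.Ti c y) := fun y => by
    rw [hγτ, mul_inv_cancel_right]
  have hcopMT : (Nat.card M).Coprime (Nat.card τ.range) := by
    obtain ⟨i, hi⟩ := IsPGroup.iff_card.1 F.pair.Qp
    obtain ⟨j, hj⟩ := IsPGroup.iff_card.1 F.pair.Tp
    refine (Nat.Coprime.coprime_dvd_left (Subgroup.card_quotient_dvd_card _) ?_).coprime_dvd_right
      (Subgroup.card_range_dvd τ)
    rw [hi, hj]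
    exact ((Nat.coprime_primes F.pair.hq F.pair.hr).2 F.pair.qr).pow i j
  have hcomm : ∀ a ∈ τ.range, ∀ b ∈ τ.range, a * b = b * a := by
    rintro _ ⟨a, rfl⟩ _ ⟨b, rfl⟩
    have h := hτ₀ (a * b * a⁻¹ * b⁻¹) (F.commutator_T₀ a.2 b.2)
    rw [map_mul, map_mul, map_mul, map_inv, map_inv, mul_inv_eq_one, mul_inv_eq_iff_eq_mul] at h
    exact h
  have hcy : ∀ y : T, τ (y⁻¹ * restrict ψ T F.pair.Ti c y) = 1 := fun y => by
    have h := S.commute_of_normalized τ.range hcomm
      (by rintro _ ⟨a, rfl⟩; exact ⟨_, (hγτ' a).symm⟩)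
      (by rintro _ ⟨a, rfl⟩; exact hτe a) hcopMT (τ y) ⟨y, rfl⟩
    rw [hγτ'] at h
    rw [map_mul, map_inv, h, inv_mul_cancel]
  have hfinal : (∀ y : T, τ y = 1) → False := by
    intro hall
    have hQR : Q ≤ Rad := F.pair.le_of_comm fun y hy u hu => by
      have h : τ ⟨y, hy⟩ ((⟨u, hu⟩ : Q) : M) = ((⟨u, hu⟩ : Q) : M) := by rw [hall]; rfl
      rw [hτ, ← mul_inv_eq_one, ← QuotientGroup.mk_inv, ← QuotientGroup.mk_mul,
        QuotientGroup.eq_one_iff] at h
      exact h
    refine R.isMax_lt hDn hDi hB ?_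
    rw [hDdef, Subgroup.commutator_le]
    exact fun a ha b hb => (hQR hb).2 a ha
  have hfpfM : (∀ x, γ x = x → x = 1) → False := by
    intro hfpf
    refine hfinal fun y => S.eq_one_of_commute F.pair.hq (F.pair.Qp.to_quotient _) hfpf hγe (τ y)
      ?_ (hτe y) ?_
    · rw [hγτ]
      congr 1
      have h := hcy y
      rw [map_mul, map_inv, inv_mul_eq_one] at h
      exact h.symm
    · exact ((F.coprime_order c).coprime_dvd_left
        (Subgroup.card_subgroup_dvd_card T)).coprime_dvd_left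
        ((orderOf_map_dvd τ y).trans (orderOf_dvd_natCard y))
  rcases hcf with rfl | hcout
  · rcases F.cases_T with hI | hII
    · refine hfpfM fun x => ?_
      induction x using QuotientGroup.induction_on with
      | H a =>
        intro h
        rw [hγ] at h
        have h4 := QuotientGroup.eq.1 h.symm
        have h1 : (a : H)⁻¹ * ψ c a ∈ Rad := h4
        haveI : Group.IsNilpotent Rad := isNilpotent_of_le hRQ
        obtain ⟨n, hn, hfix⟩ := lift_one ψ R.copAH Rad c hRc (a : H) h1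
        have h2 := hDR (F.fixed_mem_commutator hI (mul_mem a.2 hn.1) hfix)
        refine (QuotientGroup.eq_one_iff a).2 ?_
        have h3 := Rad.mul_mem h2 (Rad.inv_mem hn)
        rwa [mul_inv_cancel_right] at h3
    · refine hfinal fun y => ?_
      obtain ⟨u, hu, hu'⟩ := F.exists_commutator_f hII y.2
      have h := hτ₀ (y⁻¹ * ((⟨u, hu⟩ : T)⁻¹ * restrict ψ T F.pair.Ti c ⟨u, hu⟩)) hu'
      rwa [map_mul, hcy, mul_one, map_inv, inv_eq_one] at h
  · rcases F.cases_T with hI | hII
    · refine hfinal fun y => ?_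
      obtain ⟨u, hu, hu'⟩ := F.exists_commutator hI hcout y.2
      have e : y = (⟨u, hu⟩ : T)⁻¹ * restrict ψ T F.pair.Ti c ⟨u, hu⟩ := Subtype.ext hu'.symm
      rw [e, hcy]
    · refine hfpfM fun x => ?_
      induction x using QuotientGroup.induction_on with
      | H a =>
        intro h
        rw [hγ] at h
        refine (QuotientGroup.eq_one_iff a).2
          (F.mem_of_fixed_mod_T hII hcout (K := Rad) hRQ hDR (fun y _ z hz => hRn.conj_mem z hz y)
            hRc (fun y hy u hu => ?_) a.2 ?_)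
        · have h1 : τ ((⟨y, hy⟩ : T)⁻¹ * restrict ψ T F.pair.Ti c ⟨y, hy⟩)
              ((⟨u, hu⟩ : Q) : M) = ((⟨u, hu⟩ : Q) : M) := by rw [hcy]; rfl
          rw [hτ, ← mul_inv_eq_one, ← QuotientGroup.mk_inv, ← QuotientGroup.mk_mul,
            QuotientGroup.eq_one_iff] at h1
          exact h1
        · rw [← mul_inv_eq_one, ← QuotientGroup.mk_inv, ← QuotientGroup.mk_mul,
            QuotientGroup.eq_one_iff] at h
          exact h

theorem false [Nontrivial W] : False :=
  (em (⁅Q, Q⁆ = ⊥)).elim F.false_of_abelian F.false_of_nonabelian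

end IsPq

end Cfsg.Agent.PqFpf
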