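import Cfsg.Agent.Lib.FiniteGroup.OpFpf.Ward

/-!
A minimal configuration contains a normal `q`-subgroup and an `r`-subgroup not centralizing it, both
stable, minimal with this property.
-/

set_option autoImplicit false
set_option linter.style.haveILetI false
set_option linter.unusedSectionVars false

namespace Cfsg.Agent.PqFpf

open scoped commutatorElement
open OpFpf

/-- The pair of subgroups of a minimal configuration. -/
structure Pair {A H : Type*} [Group A] [Group H] (ψ : A →* MulAut H) (n : ℕ) (q r : ℕ)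
    (Q T : Subgroup H) : Prop where
  hq : q.Prime
  hr : r.Prime
  qr : q ≠ r
  Qn : Q.Normal
  Qi : Inv ψ Q
  Qp : IsPGroup q Q
  Qcop : (Nat.card Q).Coprime n
  Ti : Inv ψ T
  Tp : IsPGroup r T
  top : ∀ h, ∃ u ∈ Q, ∃ t ∈ T, h = u * t
  minT : ∀ K ≤ T, Inv ψ K → K ≠ T → ∀ t ∈ K, ∀ u ∈ Q, t * u = u * t
  minQ : ∀ K ≤ Q, Inv ψ K → (∀ t ∈ T, ∀ u ∈ K, t * u * t⁻¹ ∈ K) → K ≠ Q →
    ∀ t ∈ T, ∀ u ∈ K, t * u = u * t
  ncom : ¬ ∀ t ∈ T, ∀ u ∈ Q, t * u = u * t

universe u v

theorem exists_pair {A : Type v} [Group A] [Finite A] {G' : Type u} [Group G'] [Finite G']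
    [Group.IsSolvable G'] {φ : A →* MulAut G'} (C : Cfg φ Set.univ) (hfpf : Fpf φ)
    (hcopG : (Nat.card G').Coprime (Nat.card A)) :
    ∃ (q r : ℕ) (Q T : Subgroup C.H), Pair C.ψ (Nat.card C.W) q r Q T := by
  set R := C.rep hcopG hfpf with hR
  haveI := Fact.mk C.hℓ
  let ψ := C.ψ
  have hcopH : (Nat.card C.H).Coprime (Nat.card A) :=
    hcopG.coprime_dvd_left (Subgroup.card_subgroup_dvd_card C.H)
  obtain ⟨k₀, -, hN₀⟩ := C.hnil
  haveI := hN₀
  set N₀ := (⊤ : Subgroup C.H).lowerCentralSeries k₀ with hN₀def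
  haveI : Group.IsNilpotent (C.H ⧸ N₀) := Subgroup.nilpotent_iff_lowerCentralSeries.2 ⟨k₀, by
    rw [← Subgroup.map_top_of_surjective _ (QuotientGroup.mk'_surjective N₀),
      ← Subgroup.map_lowerCentralSeries]
    exact QuotientGroup.map_mk'_self N₀⟩
  have hN₀i : Inv ψ N₀ := inv_of_characteristic ψ inferInstance
  have hN₀W : (Nat.card N₀).Coprime (Nat.card C.W) := R.cop N₀ inferInstance hN₀i inferInstance
  have hnot : ¬ Group.IsNilpotent C.H := fun h => by
    obtain ⟨n, hn⟩ := Subgroup.nilpotent_iff_lowerCentralSeries.1 h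
    exact C.hnot n trivial hn
  -- some Sylow subgroup does not centralize a Sylow subgroup of `N₀`
  obtain ⟨q, r, hq, hr, hqr, Q, T, hQn, hQi, hQp, hQN, hTi, hTp, hne⟩ : ∃ q r : ℕ, q.Prime ∧
      r.Prime ∧ q ≠ r ∧ ∃ Q T : Subgroup C.H, Q.Normal ∧ Inv ψ Q ∧ IsPGroup q Q ∧ Q ≤ N₀ ∧
        Inv ψ T ∧ IsPGroup r T ∧ ¬ ∀ t ∈ T, ∀ u ∈ Q, t * u = u * t := by
    by_contra hcon
    push Not at hcon
    refine hnot ?_
    have hiff : Group.IsNilpotent C.H ↔
        ∀ (p : ℕ) (_hp : Fact p.Prime) (P : Sylow p C.H), (P : Subgroup C.H).Normal :=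
      (Group.isNilpotent_of_finite_tfae (G := C.H)).out 0 3
    refine hiff.2 fun r hr P => ?_
    haveI := hr
    obtain ⟨T, hT⟩ := exists_inv_sylow_coprime ψ hcopH r
    suffices hTn : (T : Subgroup C.H).Normal by
      haveI := Sylow.unique_of_normal T hTn
      rwa [Subsingleton.elim P T]
    set M := (T : Subgroup C.H) ⊔ N₀ with hMdef
    have hMn : M.Normal := by
      have hTimg : ((T : Subgroup C.H).map (QuotientGroup.mk' N₀)).Normal := by
        have := (T.mapSurjective (QuotientGroup.mk'_surjective N₀))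
        have h2 : ((T.mapSurjective (QuotientGroup.mk'_surjective N₀) : Sylow r (C.H ⧸ N₀)) :
            Subgroup (C.H ⧸ N₀)).Normal := inferInstance
        rwa [Sylow.coe_mapSurjective] at h2
      have := hTimg.comap (QuotientGroup.mk' N₀)
      rwa [Subgroup.comap_map_eq, QuotientGroup.ker_mk'] at this
    have hMT : ∀ x ∈ M, x ∈ Subgroup.normalizer ((T : Subgroup C.H) : Set C.H) := by
      refine fun x hx => (sup_le Subgroup.le_normalizer ?_ : M ≤ _) hx
      have h := Cfsg.Agent.FittingCores.eq_top_of_forall_sylow_le (G := N₀)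
        (X := (Subgroup.normalizer ((T : Subgroup C.H) : Set C.H)).subgroupOf N₀) (fun q hq => by
          haveI := Fact.mk hq
          obtain ⟨Qs⟩ : Nonempty (Sylow q N₀) := inferInstance
          refine ⟨Qs, fun y hy => ?_⟩
          haveI hQc : (Qs : Subgroup N₀).Characteristic := Qs.characteristic_of_normal inferInstance
          have hQn' : ((Qs : Subgroup N₀).map N₀.subtype).Normal :=
            Cfsg.Agent.FittingCores.normal_map_of_characteristic (N := N₀) inferInstance hQc
          have hQp' : IsPGroup q ((Qs : Subgroup N₀).map N₀.subtype) := Qs.isPGroup'.map _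
          by_cases hqr : q = r
          · subst hqr
            obtain ⟨P, hP⟩ := hQp'.exists_le_sylow
            obtain ⟨g, hg⟩ := MulAction.exists_smul_eq C.H P T
            refine Subgroup.le_normalizer ?_
            rw [← hg, Sylow.coe_subgroup_smul]
            refine ⟨g⁻¹ * (y : C.H) * g, hP ?_, ?_⟩
            · simpa using hQn'.conj_mem _ ⟨y, hy, rfl⟩ g⁻¹
            · change g * (g⁻¹ * (y : C.H) * g) * g⁻¹ = (y : C.H)
              group
          · rw [Subgroup.mem_subgroupOf, Subgroup.mem_normalizer_iff]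
            intro t
            have hc : ∀ t ∈ (T : Subgroup C.H), t * (y : C.H) = y * t := fun t ht =>
              hcon q r hq hr.out hqr _ _ hQn' (inv_map_subtype ψ hN₀i (inv_of_characteristic _ hQc))
                hQp' (Subgroup.map_subtype_le _) hT T.isPGroup' t ht y ⟨y, hy, rfl⟩
            constructor
            · intro ht
              rwa [← hc t ht, mul_inv_cancel_right]
            · intro ht
              have := hc _ ht
              have h' : t * (y : C.H) = y * t := by
                calc t * (y : C.H) = (y : C.H)⁻¹ * ((y : C.H) * t * (y : C.H)⁻¹ * y) * y := by group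
                  _ = _ := by rw [this]; group
              rwa [← h', mul_inv_cancel_right] at ht)
      exact Subgroup.subgroupOf_eq_top.1 h
    have hTM : ((T.subtype le_sup_left : Sylow r M) : Subgroup M).Normal := by
      refine ⟨fun x hx g => ?_⟩
      have := (Subgroup.mem_normalizer_iff.1 (hMT g g.2) x).1 hx
      exact this
    have hTc := (T.subtype le_sup_left : Sylow r M).characteristic_of_normal hTM
    have := Cfsg.Agent.FittingCores.normal_map_of_characteristic (N := M) hMn hTc
    rwa [Sylow.coe_subtype, Subgroup.map_subgroupOf_eq_of_le le_sup_left] at this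
  haveI := Fact.mk hq
  haveI := Fact.mk hr
  have hQcop : (Nat.card Q).Coprime (Nat.card C.W) :=
    hN₀W.coprime_dvd_left (Subgroup.card_dvd_of_le hQN)
  have hQT : ∀ x, x ∈ Q → x ∈ T → x = 1 := fun x hx hy =>
    Subgroup.mem_bot.1 ((IsPGroup.disjoint_of_ne q r hqr Q T hQp hTp).le_bot ⟨hx, hy⟩)
  -- elements of a proper stable subgroup commute
  have hmini : ∀ K : Subgroup C.H, Inv ψ K → K ≠ ⊤ →
      ∀ t ∈ T, ∀ u ∈ Q, t ∈ K → u ∈ K → t * u = u * t := by
    intro K hKi hKne t ht u hu htK huK
    obtain ⟨k, -, hk⟩ := C.hsub K hKi hKne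
    obtain ⟨i, hi⟩ := IsPGroup.iff_orderOf.1 hQp ⟨u, hu⟩
    obtain ⟨j, hj⟩ := IsPGroup.iff_orderOf.1 hTp ⟨t, ht⟩
    rw [Subgroup.orderOf_mk] at hi hj
    have hmem := commutator_mem_lcs (k := k) hr hqr huK htK hi hj
    have hQ' : ⁅u, t⁆ ∈ Q := by
      rw [commutatorElement_def, mul_assoc u t, mul_assoc u]
      exact mul_mem hu (hQn.conj_mem _ (inv_mem hu) t)
    obtain ⟨m, hm⟩ := IsPGroup.iff_orderOf.1 hk ⟨_, hmem⟩
    rw [Subgroup.orderOf_mk] at hm
    have hone : ⁅u, t⁆ = 1 := by
      rw [← orderOf_eq_one_iff]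
      refine Nat.eq_one_of_dvd_coprimes
        ((hQcop.coprime_dvd_left (Subgroup.orderOf_dvd_natCard Q hQ')).pow_right 1)
        dvd_rfl ?_
      rw [pow_one, hm]
      obtain ⟨e, he⟩ := IsPGroup.iff_card.1 C.hVp
      have he0 : e ≠ 0 := fun h0 => by
        rw [h0, pow_zero, Subgroup.card_eq_one] at he
        exact C.hVne he
      rcases m with _ | m
      · simp
      · rw [Nat.card_congr Additive.toMul, he]
        by_contra hndvd
        -- the order is then one
        exact hndvd (by
          have hcop' : (C.ℓ ^ (m + 1)).Coprime (C.ℓ ^ e) := by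
            rw [← hm]
            have := hQcop.coprime_dvd_left (Subgroup.orderOf_dvd_natCard Q hQ')
            rwa [Nat.card_congr Additive.toMul, he] at this
          rw [Nat.coprime_pow_left_iff (Nat.succ_pos m), Nat.coprime_pow_right_iff
            (Nat.pos_of_ne_zero he0), Nat.coprime_self] at hcop'
          exact absurd hcop' C.hℓ.ne_one)
    exact (commutatorElement_eq_one_iff_mul_comm.1 hone).symm
  have htop : Q ⊔ T = ⊤ := by
    by_contra h
    exact hne fun t ht u hu => hmini _ (inv_sup ψ hQi hTi) h t ht u hu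
      (Subgroup.mem_sup_right ht) (Subgroup.mem_sup_left hu)
  have hmemQT : ∀ (K L : Subgroup C.H), L ≤ Subgroup.normalizer (K : Set C.H) → ∀ h ∈ K ⊔ L,
      ∃ u ∈ K, ∃ t ∈ L, h = u * t := fun K L hle h hh =>
    (Cfsg.Agent.SolvBasic.mem_sup_iff_of_le_normalizer (H := L) (N := K) hle).1 hh
  refine ⟨q, r, Q, T, ?_⟩
  exact
    { hq := hq, hr := hr, qr := hqr
      Qn := hQn, Qi := hQi, Qp := hQp, Qcop := hQcop, Ti := hTi, Tp := hTp
      top := fun h => hmemQT Q T Subgroup.le_normalizer_of_normal h (htop ▸ Subgroup.mem_top h)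
      minT := fun K hKT hKi hKne t ht u hu => by
        refine hmini (Q ⊔ K) (inv_sup ψ hQi hKi) (fun h => hKne (le_antisymm hKT fun s hs => ?_))
          t (hKT ht) u hu (Subgroup.mem_sup_right ht) (Subgroup.mem_sup_left hu)
        obtain ⟨w, hw, k, hk, rfl⟩ :=
          hmemQT Q K Subgroup.le_normalizer_of_normal s (h ▸ Subgroup.mem_top s)
        rw [hQT w hw (by simpa using mul_mem hs (inv_mem (hKT hk))), one_mul]
        exact hk
      minQ := fun K hKQ hKi hKT hKne t ht u hu => by
        have hle : T ≤ Subgroup.normalizer (K : Set C.H) := fun s hs => by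
          rw [Subgroup.mem_normalizer_iff]
          refine fun x => ⟨hKT s hs x, fun hx => ?_⟩
          have := hKT s⁻¹ (inv_mem hs) _ hx
          simpa [mul_assoc] using this
        refine hmini (K ⊔ T) (inv_sup ψ hKi hTi) (fun h => hKne (le_antisymm hKQ fun w hw => ?_))
          t ht u (hKQ hu) (Subgroup.mem_sup_right ht) (Subgroup.mem_sup_left hu)
        obtain ⟨k, hk, s, hs, rfl⟩ := hmemQT K T hle w (h ▸ Subgroup.mem_top w)
        rw [hQT s (by simpa using mul_mem (inv_mem (hKQ hk)) hw) hs, mul_one]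
        exact hk
      ncom := hne }

end Cfsg.Agent.PqFpf
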