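import Cfsg.Agent.Lib.FiniteGroup.PqFpf.Pair

/-!
Elementary properties of the pair of a minimal configuration.
-/

set_option autoImplicit false
set_option linter.style.haveILetI false
set_option linter.unusedSectionVars false

namespace Cfsg.Agent.PqFpf

open scoped commutatorElement BigOperators
open OpFpf

variable {A H : Type*} [Group A] [Group H] [Finite H] {ψ : A →* MulAut H} {n q r : ℕ}
  {Q T : Subgroup H} (F : Pair ψ n q r Q T)

include F

/-- `Q` is generated by its commutators with `T`. -/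
theorem Pair.le_of_comm {X : Subgroup H} (hX : ∀ t ∈ T, ∀ u ∈ Q, t * u * t⁻¹ * u⁻¹ ∈ X) :
    Q ≤ X := by
  set C := Subgroup.closure {x | ∃ t ∈ T, ∃ u ∈ Q, t * u * t⁻¹ * u⁻¹ = x} with hC
  have hmem : ∀ t ∈ T, ∀ u ∈ Q, t * u * t⁻¹ * u⁻¹ ∈ C := fun t ht u hu =>
    Subgroup.subset_closure ⟨t, ht, u, hu, rfl⟩
  have hCQ : C ≤ Q := by
    rw [hC, Subgroup.closure_le]
    rintro _ ⟨t, _, u, hu, rfl⟩
    exact mul_mem (F.Qn.conj_mem u hu t) (inv_mem hu)
  have hCi : Inv ψ C := by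
    refine inv_closure ψ ?_
    rintro a _ ⟨t, ht, u, hu, rfl⟩
    rw [map_mul, map_mul, map_mul, map_inv (ψ a), map_inv (ψ a)]
    exact hmem _ (F.Ti a t ht) _ (F.Qi a u hu)
  have hCT : ∀ t ∈ T, ∀ x ∈ C, t * x * t⁻¹ ∈ C := by
    intro s hs x hx
    refine (Subgroup.closure_le (K := C.comap (MulAut.conj s).toMonoidHom)).2 ?_ hx
    rintro _ ⟨t, ht, u, hu, rfl⟩
    change s * (t * u * t⁻¹ * u⁻¹) * s⁻¹ ∈ C
    rw [show s * (t * u * t⁻¹ * u⁻¹) * s⁻¹ =
      (s * t) * u * (s * t)⁻¹ * u⁻¹ * (s * u * s⁻¹ * u⁻¹)⁻¹ by group]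
    exact mul_mem (hmem _ (mul_mem hs ht) u hu) (inv_mem (hmem s hs u hu))
  by_cases hCQ' : C = Q
  · rw [← hCQ', hC, Subgroup.closure_le]
    rintro _ ⟨t, ht, u, hu, rfl⟩
    exact hX t ht u hu
  refine (F.ncom fun t ht u hu => ?_).elim
  set w := t * u * t⁻¹ * u⁻¹ with hw
  have hcw : Commute t w := F.minQ C hCQ hCi hCT hCQ' t ht w (hmem t ht u hu)
  have hiter : ∀ i : ℕ, t ^ i * u * (t ^ i)⁻¹ = w ^ i * u := by
    intro i
    induction i with
    | zero => simp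
    | succ i ihi =>
      rw [pow_succ' t, show t * t ^ i * u * (t * t ^ i)⁻¹ =
        t * (t ^ i * u * (t ^ i)⁻¹) * t⁻¹ by group, ihi,
        ← mul_assoc, (hcw.pow_right i).eq, pow_succ w, hw]
      group
  have hord := hiter (orderOf t)
  rw [pow_orderOf_eq_one, one_mul, inv_one, mul_one, eq_comm, mul_eq_right] at hord
  haveI := Fact.mk F.hq
  haveI := Fact.mk F.hr
  obtain ⟨i, hi⟩ := IsPGroup.iff_orderOf.1 F.Qp ⟨w, hCQ (hmem t ht u hu)⟩
  obtain ⟨j, hj⟩ := IsPGroup.iff_orderOf.1 F.Tp ⟨t, ht⟩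
  rw [Subgroup.orderOf_mk] at hi hj
  have hw1 : w = 1 := orderOf_eq_one_iff.1 (Nat.eq_one_of_dvd_coprimes
    (((Nat.coprime_primes F.hr F.hq).2 F.qr.symm).pow j i) (hj ▸ orderOf_dvd_of_pow_eq_one hord)
    (hi ▸ dvd_rfl))
  rw [hw, mul_inv_eq_one, mul_inv_eq_iff_eq_mul] at hw1
  exact hw1

theorem Pair.Q_nontrivial : Nontrivial Q := by
  rw [Subgroup.nontrivial_iff_ne_bot]
  intro h
  refine F.ncom fun t _ u hu => ?_
  rw [h, Subgroup.mem_bot] at hu
  rw [hu, mul_one, one_mul]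

theorem Pair.commutator_lt : ⁅Q, Q⁆ ≠ Q := by
  haveI := Fact.mk F.hq
  haveI := F.Q_nontrivial
  haveI : Group.IsNilpotent Q := F.Qp.isNilpotent
  intro h
  refine (Group.IsSolvable.commutator_lt_top_of_nontrivial Q).ne
    (Subgroup.map_injective Q.subtype_injective ?_)
  rw [commutator_def, Subgroup.map_commutator, ← MonoidHom.range_eq_map, Subgroup.range_subtype, h]

theorem Pair.commutator_central {z : H} (hz : z ∈ ⁅Q, Q⁆) (h : H) : h * z = z * h := by
  haveI := F.Qn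
  have hTz : ∀ t ∈ T, ∀ y ∈ ⁅Q, Q⁆, t * y = y * t :=
    F.minQ ⁅Q, Q⁆ (Subgroup.commutator_le_left Q Q) (inv_commutator ψ F.Qi F.Qi)
      (fun t _ y hy => (inferInstance : (⁅Q, Q⁆).Normal).conj_mem y hy t) F.commutator_lt
  have hle : Q ≤ Subgroup.centralizer {z} := by
    refine F.le_of_comm fun t ht u hu => ?_
    rw [Subgroup.mem_centralizer_singleton_iff]
    have hu' : u⁻¹ * z * u ∈ ⁅Q, Q⁆ := by
      simpa using (inferInstance : (⁅Q, Q⁆).Normal).conj_mem z hz u⁻¹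
    have h1 := hTz t⁻¹ (inv_mem ht) z hz
    have h2 := hTz t⁻¹ (inv_mem ht) _ hu'
    calc t * u * t⁻¹ * u⁻¹ * z = t * u * (t⁻¹ * (u⁻¹ * z * u)) * u⁻¹ := by group
      _ = t * z * (u * t⁻¹ * u⁻¹) := by rw [h2]; group
      _ = z * (t * u * t⁻¹ * u⁻¹) := by rw [hTz t ht z hz]; group
  obtain ⟨u, hu, t, ht, rfl⟩ := F.top h
  rw [mul_assoc, hTz t ht z hz, ← mul_assoc,
    Subgroup.mem_centralizer_singleton_iff.1 (hle hu), mul_assoc]

/-- The norm over `T` annihilates the abelianization of `Q`. -/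
theorem Pair.norm_eq_one [Q.Normal] [Fintype T] (u : Q) :
    ∏ t : T, Abelianization.of (MulAut.conjNormal (t : H) u) = 1 := by
  classical
  let n : Q →* Abelianization Q :=
    { toFun := fun u => ∏ t : T, Abelianization.of (MulAut.conjNormal (t : H) u)
      map_one' := Finset.prod_eq_one fun t _ => by rw [map_one, map_one]
      map_mul' := fun u w => by simp only [map_mul, Finset.prod_mul_distrib] }
  have hn : ∀ (s : T) (u : Q), n (MulAut.conjNormal (s : H) u) = n u := fun s u => by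
    refine Fintype.prod_equiv (Equiv.mulRight s) _ _ fun t => ?_
    simp only [Equiv.coe_mulRight, Subgroup.coe_mul, map_mul]
    rfl
  change n u = 1
  have hle : Q ≤ n.ker.map Q.subtype := by
    refine F.le_of_comm fun t ht w hw => ⟨MulAut.conjNormal t ⟨w, hw⟩ * ⟨w, hw⟩⁻¹, ?_, ?_⟩
    · rw [SetLike.mem_coe, MonoidHom.mem_ker, map_mul, map_inv, hn ⟨t, ht⟩, mul_inv_cancel]
    · rfl
  obtain ⟨y, hy, hyu⟩ := hle u.2
  have e : y = u := Subtype.ext hyu
  exact e ▸ hy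

theorem Pair.mem_commutator_of_centralized {x : H} (hx : x ∈ Q)
    (hc : ∀ t ∈ T, t * x = x * t) : x ∈ ⁅Q, Q⁆ := by
  classical
  haveI := Fintype.ofFinite T
  haveI := F.Qn
  haveI : Finite (Abelianization Q) := Finite.of_surjective _ QuotientGroup.mk_surjective
  have hone : ∀ u : Q, ∏ t : T, Abelianization.of (MulAut.conjNormal (t : H) u) = 1 :=
    fun u => F.norm_eq_one u
  have h1 : Abelianization.of (⟨x, hx⟩ : Q) ^ Nat.card T = 1 := by
    rw [← hone ⟨x, hx⟩, Nat.card_eq_fintype_card, ← Finset.card_univ, ← Finset.prod_const]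
    refine Finset.prod_congr rfl fun t _ => congrArg _ (Subtype.ext ?_)
    rw [MulAut.conjNormal_apply]
    exact (mul_inv_eq_iff_eq_mul.2 (hc t t.2)).symm
  haveI := Fact.mk F.hq
  haveI := Fact.mk F.hr
  obtain ⟨i, hi⟩ := IsPGroup.iff_card.1 F.Qp
  obtain ⟨j, hj⟩ := IsPGroup.iff_card.1 F.Tp
  have hcop : (Nat.card (Abelianization Q)).Coprime (Nat.card T) := by
    refine Nat.Coprime.coprime_dvd_left
      (Subgroup.card_dvd_of_surjective Abelianization.of QuotientGroup.mk_surjective) ?_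
    rw [hi, hj]
    exact ((Nat.coprime_primes F.hq F.hr).2 F.qr).pow i j
  have h2 := S3Fpf.eq_one_of_pow_eq_one hcop h1
  rw [← MonoidHom.mem_ker, Abelianization.ker_of] at h2
  rw [← Subgroup.map_subtype_commutator]
  exact ⟨_, h2, rfl⟩

end Cfsg.Agent.PqFpf
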